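import Cfsg.Prelude.Def_CaseTheorems
import Cfsg.Agent.Lib.WeightRank.Basic
import Cfsg.Agent.Lib.Fitting.Basic

/-!
An involution `z` centralizing an elementary abelian `p`-group `B` of largest `2`-local rank: a
subgroup `D` of `C(z)` of exponent four, class two and centre of `2`-rank one, and a pair of
quaternion pieces in `D`.
-/

set_option autoImplicit false
set_option linter.style.haveILetI false
set_option linter.unusedSectionVars false

open scoped commutatorElement

namespace CfsgLib.WeightRank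

variable {G : Type*} [Group G] [Finite G] {p : ℕ} [hp : Fact p.Prime]

/-- The detecting subgroup of a local subgroup. -/
theorem exists_detects_local {q : ℕ} [Fact q.Prime] (N : Subgroup G)
    (hN : Subgroup.centralizer (Cfsg.pCore q ↥N : Set ↥N) ≤ Cfsg.pCore q ↥N) :
    ∃ R : Subgroup G, R ≤ N ∧ IsPGroup q R ∧ N ≤ Subgroup.normalizer (R : Set G) ∧
      ∀ g ∈ N, (orderOf g).Coprime q → (∀ x ∈ R, g * x = x * g) → g = 1 := by
  set P := Cfsg.pCore q ↥N with hP
  haveI : P.Normal := Fitting.pCore_normal q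
  have hPp : IsPGroup q P := Fitting.pCore_isPGroup q
  refine ⟨P.map N.subtype, Subgroup.map_subtype_le P, hPp.map _, ?_, fun g hg hgq hfix => ?_⟩
  · have h := Subgroup.le_normalizer_map N.subtype (H := P)
    rw [Subgroup.normalizer_eq_top (H := P), ← MonoidHom.range_eq_map, Subgroup.range_subtype] at h
    exact h
  · have hgP : (⟨g, hg⟩ : N) ∈ P := hN fun x hx => Subtype.ext (hfix _ ⟨x, hx, rfl⟩).symm
    obtain ⟨k, hk⟩ := hPp.exists_orderOf_eq_pow ⟨_, hgP⟩
    rw [Subgroup.orderOf_mk, Subgroup.orderOf_mk] at hk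
    exact orderOf_eq_one_iff.mp (Nat.eq_one_of_dvd_coprimes (hgq.pow_right k) dvd_rfl (hk ▸ dvd_rfl))

/-- Detection in the centralizer of a `p`-subgroup of a group of local characteristic `p`. -/
theorem exists_detects_centralizer {A : Subgroup G} (hA : IsPGroup p A)
    (hN : Subgroup.centralizer (Cfsg.pCore p ↥(Subgroup.normalizer (A : Set G)) :
        Set ↥(Subgroup.normalizer (A : Set G))) ≤ Cfsg.pCore p ↥(Subgroup.normalizer (A : Set G))) :
    ∃ D : Subgroup G, Detects p (Subgroup.centralizer (A : Set G)) D := by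
  obtain ⟨R, -, hR, hNR, hfaith⟩ := exists_detects_local (q := p) _ hN
  have hCN : Subgroup.centralizer (A : Set G) ≤ Subgroup.normalizer (A : Set G) :=
    Subgroup.centralizer_le_normalizer _
  obtain ⟨D, -, hD⟩ := exists_detects (q := p) (C := Subgroup.centralizer (A : Set G))
    (R := R ⊓ Subgroup.centralizer (A : Set G)) inf_le_right (hR.to_le inf_le_left)
    (Coprime.le_normalizer_inf_of_le (hCN.trans hNR) Subgroup.le_normalizer) fun g hg hgp hfix => by
      refine hfaith g (hCN hg) hgp fun x hx => ?_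
      have hQ : Subgroup.zpowers g ≤ Subgroup.centralizer (A : Set G) := Subgroup.zpowers_le.mpr hg
      have h := Coprime.pxq hA (Q := Subgroup.zpowers g) (by rwa [Nat.card_zpowers])
        (Subgroup.le_centralizer_iff.mp hQ) (U := R) hR
        (Subgroup.le_normalizer.trans hNR) ((hQ.trans hCN).trans hNR)
        (fun y hy => by
          intro z hz
          obtain ⟨i, rfl⟩ := Subgroup.mem_zpowers_iff.mp hz
          exact ((show Commute g y from hfix y hy).zpow_left i).eq)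
      exact (h (Subgroup.mem_zpowers g) x hx).symm
  exact ⟨D, hD⟩

/-- No involution centralizes an elementary abelian `p`-group of order above `p ^ n`. -/
def RankBound (p n : ℕ) (G : Type*) [Group G] : Prop :=
  ∀ w : G, w ≠ 1 → w * w = 1 → ∀ E : Subgroup G, Cfsg.IsElementaryAbelian p E →
    E ≤ Subgroup.centralizer ({w} : Set G) → Nat.card E ≤ p ^ n

/-- Every nontrivial elementary abelian `p`-subgroup has a detecting subgroup. -/
def LocalDetect (p : ℕ) (G : Type*) [Group G] : Prop :=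
  ∀ A : Subgroup G, Cfsg.IsElementaryAbelian p A → A ≠ ⊥ →
    ∃ D : Subgroup G, Detects p (Subgroup.centralizer (A : Set G)) D

/-- The subgroup of `C(z)`. -/
structure CentData (z : G) (D : Subgroup G) : Prop where
  le : D ≤ Subgroup.centralizer ({z} : Set G)
  norm : Subgroup.centralizer ({z} : Set G) ≤ Subgroup.normalizer (D : Set G)
  pgroup : IsPGroup 2 D
  mem : z ∈ D
  comm : ∀ a ∈ D, ∀ b ∈ D, ⁅a, b⁆ = 1 ∨ ⁅a, b⁆ = z
  sq : ∀ a ∈ D, a * a = 1 ∨ a * a = z
  cent : ∀ u ∈ D, (∀ d ∈ D, u * d = d * u) → u * u = 1 → u = 1 ∨ u = z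
  faithful : ∀ g ∈ Subgroup.centralizer ({z} : Set G), (orderOf g).Coprime 2 →
    (∀ d ∈ D, g * d = d * g) → g = 1

theorem mem_zpowers_two {g e : G} (hg : g * g = 1) (he : e ∈ Subgroup.zpowers g) : e = 1 ∨ e = g := by
  obtain ⟨i, rfl⟩ := Subgroup.mem_zpowers_iff.mp he
  have h2 : g ^ (2 : ℤ) = 1 := by rw [zpow_two, hg]
  rcases Int.even_or_odd' i with ⟨k, rfl | rfl⟩
  · left; rw [zpow_mul, h2, one_zpow]
  · right; rw [zpow_add, zpow_mul, h2, one_zpow, one_mul, zpow_one]

/-- An element of `p`-power order whose conjugates differ by a fixed element of coprime order fixes it. -/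
theorem conj_eq_self {g v c : G} {m : ℕ} (hg : g ^ m = 1) (hgv : g * v * g⁻¹ = v * c)
    (hgc : g * c * g⁻¹ = c) (hc : c ^ m = 1 → c = 1) : g * v * g⁻¹ = v := by
  have h : ∀ i : ℕ, g ^ i * v * (g ^ i)⁻¹ = v * c ^ i := by
    intro i
    induction i with
    | zero => simp
    | succ i ih =>
      have hgci : g * c ^ i * g⁻¹ = c ^ i := by rw [← conj_pow, hgc]
      calc g ^ (i + 1) * v * (g ^ (i + 1))⁻¹ = g * (g ^ i * v * (g ^ i)⁻¹) * g⁻¹ := by
            rw [pow_succ']; group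
        _ = (g * v * g⁻¹) * (g * c ^ i * g⁻¹) := by rw [ih]; group
        _ = v * c ^ (i + 1) := by rw [hgv, hgci, pow_succ', mul_assoc]
  have hm := h m
  rw [hg, one_mul, inv_one, mul_one, left_eq_mul] at hm
  rw [hgv, hc hm, mul_one]

variable {n : ℕ} {z : G} {B : Subgroup G}

theorem card_two_le {W : Subgroup G} (hW : Cfsg.IsElementaryAbelian 2 W) {k : ℕ}
    (h : 2 ^ k < Nat.card W) : 2 ^ (k + 1) ≤ Nat.card W := by
  haveI : Fact (Nat.Prime 2) := ⟨Nat.prime_two⟩
  obtain ⟨j, hj⟩ := IsPGroup.iff_card.mp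
    (show IsPGroup 2 W from fun q => ⟨1, Subtype.ext (by rw [pow_one]; exact hW.2 q q.2)⟩)
  rw [hj] at h ⊢
  exact Nat.pow_le_pow_right two_pos ((Nat.pow_lt_pow_iff_right one_lt_two).mp h)

/-- A fixed-point-free action of an elementary abelian group on a four-group or larger. -/
theorem four_le_of_fpf (hp2 : p ≠ 2) {W : Subgroup G} (hW : Cfsg.IsElementaryAbelian 2 W) (hW1 : W ≠ ⊥)
    {β : G} (hβ : β ^ p = 1) (hmove : ∀ w ∈ W, w ≠ 1 → β * w * β⁻¹ ≠ w)
    (hnorm : ∀ w ∈ W, β * w * β⁻¹ ∈ W) : 4 ≤ Nat.card W := by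
  obtain ⟨⟨w, hw⟩, hw1⟩ := Subgroup.ne_bot_iff_exists_ne_one.mp hW1
  have hw1' : w ≠ 1 := fun h => hw1 (Subtype.ext h)
  have h2 : 2 ^ 1 < Nat.card W := by
    rw [pow_one]
    by_contra hle
    push Not at hle
    have hWz : W = Subgroup.zpowers w := by
      refine (Subgroup.eq_of_le_of_card_ge (Subgroup.zpowers_le.mpr hw) ?_).symm
      rwa [Nat.card_zpowers, orderOf_eq_prime (hW.2 w hw) hw1']
    have hmem : β * w * β⁻¹ ∈ Subgroup.zpowers w := hWz ▸ hnorm w hw
    rcases mem_zpowers_two (by rw [← pow_two]; exact hW.2 w hw) hmem with h | h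
    · exact hw1' (by rwa [mul_inv_eq_one, mul_eq_left] at h)
    · exact hmove w hw hw1' h
  exact card_two_le hW h2

/-- The basic consequence: `B`-invariant elementary abelian `2`-groups through `z` are `⟨z⟩`. -/
theorem elementary_eq (hp2 : p ≠ 2) (hn : 2 ≤ n) (hmax : RankBound p n G) (hloc : LocalDetect p G)
    (hB : Cfsg.IsElementaryAbelian p B) (hBn : Nat.card B = p ^ n)
    (hBz : B ≤ Subgroup.centralizer ({z} : Set G)) (hz : z * z = 1) (hz1 : z ≠ 1)
    {V : Subgroup G} (hV : Cfsg.IsElementaryAbelian 2 V) (hzV : z ∈ V)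
    (hBV : B ≤ Subgroup.normalizer (V : Set G)) {v : G} (hv : v ∈ V) : v = 1 ∨ v = z := by
  haveI : Fact (Nat.Prime 2) := ⟨Nat.prime_two⟩
  haveI := hB.1
  by_contra hvz
  push Not at hvz
  have hV4 : 4 ≤ Nat.card V := by
    refine card_two_le hV (k := 1) ?_
    rw [pow_one]
    by_contra hle
    push Not at hle
    have hVz : V = Subgroup.zpowers z := by
      refine (Subgroup.eq_of_le_of_card_ge (Subgroup.zpowers_le.mpr hzV) ?_).symm
      rwa [Nat.card_zpowers, orderOf_eq_prime (by rw [pow_two]; exact hz) hz1]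
    rcases mem_zpowers_two hz (hVz ▸ hv) with h | h
    · exact hvz.1 h
    · exact hvz.2 h
  have hBp : IsPGroup p B := IsPGroup.of_card hBn
  have hBp2 : p ^ 2 ≤ Nat.card B := hBn ▸ Nat.pow_le_pow_right hp.out.pos hn
  have hcop := (coprime_card_of_two hp2 hV hBp).symm
  have hcent : ¬ V ≤ Subgroup.centralizer (B : Set G) := by
    intro hVB
    obtain ⟨D, hD⟩ := hloc B hB (fun h => by
      rw [h, Subgroup.card_bot] at hBp2
      exact absurd hBp2 (Nat.not_le.mpr (Nat.one_lt_pow two_ne_zero hp.out.one_lt)))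
    obtain ⟨w, hw, hw2, E, hE, hc, hEw⟩ := exists_rank_one hp2 le_rfl hB hD hV hVB hV4
    have := hc.trans (hmax w hw (by rw [← pow_two]; exact hw2) E hE hEw)
    rw [hBn, ← pow_succ', Nat.pow_le_pow_iff_right hp.out.one_lt] at this
    omega
  obtain ⟨A, hA, hAi, hAn⟩ : ∃ A ≤ B, A.relIndex B ≤ p ∧
      ¬ V ⊓ Subgroup.centralizer (A : Set G) ≤ Subgroup.centralizer (B : Set G) := by
    by_contra hno
    push Not at hno
    exact hcent (Coprime.le_of_hyperplane_centralizer_le hB.1 hB.2 hBp2 hBV hcop hno)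
  have hAe := ea_mono hA hB
  have hAc : p ^ n ≤ p * Nat.card A := by
    have h := Coprime.relIndex_mul_card_inf A B
    rw [inf_eq_left.mpr hA, hBn] at h
    exact h ▸ Nat.mul_le_mul_right _ hAi
  have hAne : A ≠ ⊥ := fun h => by
    rw [h, Subgroup.card_bot, mul_one] at hAc
    have := (Nat.pow_le_pow_right hp.out.pos hn).trans hAc
    rw [pow_two] at this
    have := hp.out.two_le
    nlinarith
  set W₀ := V ⊓ Subgroup.centralizer (A : Set G) with hW₀
  have hW₀e := ea_mono (inf_le_left : W₀ ≤ V) hV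
  haveI := hW₀e.1
  have hBW₀ : B ≤ Subgroup.normalizer (W₀ : Set G) :=
    Coprime.le_normalizer_inf_of_le hBV (((le_centralizer_self_of_ea hB).trans
      (Subgroup.centralizer_le hA)).trans Subgroup.le_normalizer)
  have hcop₀ : (Nat.card B).Coprime (Nat.card W₀) :=
    hcop.coprime_dvd_right (Subgroup.card_dvd_of_le inf_le_left)
  set W := ⁅W₀, B⁆ with hW
  have hWW₀ : W ≤ W₀ := Coprime.commutator_le_left_of_le_normalizer hBW₀
  have hWfix : W ⊓ Subgroup.centralizer (B : Set G) = ⊥ := by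
    refine le_bot_iff.mp (le_trans ?_ (Coprime.centralizer_inf_commutator_eq_bot hBW₀ hcop₀).le)
    exact le_inf (inf_le_inf_right _ hWW₀) inf_le_left
  have hW1 : W ≠ ⊥ := fun h => hAn (Subgroup.commutator_eq_bot_iff_le_centralizer.mp h)
  obtain ⟨β, hβ, hβA⟩ : ∃ β ∈ B, β ∉ A := by
    by_contra hno
    push Not at hno
    exact hAn (inf_le_right.trans (Subgroup.centralizer_le hno))
  obtain ⟨hEe, hEc⟩ := extend hAe (hB.2 β hβ) hβA fun a ha => mul_comm_of_ea hB (hA ha) hβ
  have hsup : A ⊔ Subgroup.zpowers β = B := by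
    refine Subgroup.eq_of_le_of_card_ge (sup_le hA (Subgroup.zpowers_le.mpr hβ)) ?_
    rw [hEc, hBn]
    exact hAc
  have hWe := ea_mono (hWW₀.trans inf_le_left) hV
  have hWA : W ≤ Subgroup.centralizer (A : Set G) := hWW₀.trans inf_le_right
  have hBW : B ≤ Subgroup.normalizer (W : Set G) :=
    Coprime.le_normalizer_commutator hBW₀ Subgroup.le_normalizer
  have hW4 : 4 ≤ Nat.card W := by
    refine four_le_of_fpf hp2 hWe hW1 (hB.2 β hβ) (fun w hw hw1 hfix => ?_)
      fun w hw => (Subgroup.mem_normalizer_iff.mp (hBW hβ) w).mp hw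
    refine hw1 ((Subgroup.eq_bot_iff_forall _).mp hWfix w ⟨hw, ?_⟩)
    refine Subgroup.le_centralizer_iff.mp ?_ (Subgroup.mem_zpowers w)
    rw [← hsup]
    refine sup_le (Subgroup.le_centralizer_iff.mp (Subgroup.zpowers_le.mpr (hWA hw)))
      (Subgroup.zpowers_le.mpr fun u hu => ?_)
    obtain ⟨i, rfl⟩ := Subgroup.mem_zpowers_iff.mp hu
    exact ((show Commute β w from mul_inv_eq_iff_eq_mul.mp hfix).zpow_right i).symm.eq
  have hznW : z ∉ W := fun h => hz1 ((Subgroup.eq_bot_iff_forall _).mp hWfix z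
    ⟨h, fun b hb => Subgroup.mem_centralizer_singleton_iff.mp (hBz hb)⟩)
  obtain ⟨hQe, hQc⟩ := extend (p := 2) hWe (by rw [pow_two]; exact hz) hznW
    fun e he => mul_comm_of_ea hV (hWW₀ he).1 hzV
  obtain ⟨D, hD⟩ := hloc A hAe hAne
  obtain ⟨w, hw, hw2, E, hE, hc, hEw⟩ := exists_rank_two hp2 hAe hD hQe
    (sup_le hWA (Subgroup.zpowers_le.mpr fun a ha =>
      Subgroup.mem_centralizer_singleton_iff.mp (hBz (hA ha)))) (by rw [hQc]; omega)
  have h1 : p * p ^ n ≤ Nat.card E := (Nat.mul_le_mul_left p hAc).trans hc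
  have h2 := h1.trans (hmax w hw (by rw [← pow_two]; exact hw2) E hE hEw)
  rw [← pow_succ', Nat.pow_le_pow_iff_right hp.out.one_lt] at h2
  omega

/-- The data exist for every involution centralizing such a `B`. -/
theorem exists_centData (hp2 : p ≠ 2) (hn : 2 ≤ n) (hmax : RankBound p n G) (hloc : LocalDetect p G)
    (hG : Cfsg.IsCharacteristicTwoType G) (hB : Cfsg.IsElementaryAbelian p B) (hBn : Nat.card B = p ^ n)
    (hBz : B ≤ Subgroup.centralizer ({z} : Set G)) (hz : z * z = 1) (hz1 : z ≠ 1) :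
    ∃ D : Subgroup G, CentData z D := by
  haveI : Fact (Nat.Prime 2) := ⟨Nat.prime_two⟩
  have hzp : IsPGroup 2 ↥(Subgroup.zpowers z) := IsPGroup.of_card (n := 1)
    (by rw [Nat.card_zpowers, orderOf_eq_prime (by rw [pow_two]; exact hz) hz1, pow_one])
  have hNC : Subgroup.normalizer ((Subgroup.zpowers z : Subgroup G) : Set G) =
      Subgroup.centralizer ({z} : Set G) := by
    refine le_antisymm (fun g hg => ?_)
      (fun g hg => Subgroup.centralizer_le_normalizer _ (Coprime.mem_centralizer_singleton_zpowers hg))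
    rw [Subgroup.mem_centralizer_singleton_iff]
    rcases mem_zpowers_two hz ((Subgroup.mem_normalizer_iff.mp hg z).mp (Subgroup.mem_zpowers z))
      with h | h
    · exact absurd (by rwa [mul_inv_eq_one, mul_eq_left] at h) hz1
    · exact mul_inv_eq_iff_eq_mul.mp h
  obtain ⟨R, hRN, hR, hNR, hfaith⟩ := exists_detects_local (q := 2) _
    (hG.2 _ hzp (Subgroup.zpowers_ne_bot.mpr hz1))
  obtain ⟨D, -, hD⟩ := exists_detects (q := 2) hRN hR hNR hfaith
  rw [hNC] at hD
  have hexp : ∀ d ∈ D, d ^ 4 = 1 := fun d hd => by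
    have h := hD.expo d hd
    rwa [show Critical.Detect.expo 2 = 4 from if_pos rfl] at h
  have hmemc : ∀ {a b : G}, a ∈ D → b ∈ D → ⁅a, b⁆ ∈ D := fun ha hb => by
    rw [commutatorElement_def]
    exact mul_mem (mul_mem (mul_mem ha hb) (inv_mem ha)) (inv_mem hb)
  have hc2 : ∀ a ∈ D, ∀ b ∈ D, ⁅a, b⁆ * ⁅a, b⁆ = 1 := by
    intro a ha b hb
    set c := ⁅a, b⁆ with hc
    have hcD : c ∈ D := hmemc ha hb
    have h := Critical.Detect.mul_pow_class_two (x := b) (y := a) (hD.cls a ha b hb b hb)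
      (hD.cls a ha b hb a ha) 4
    rw [hexp _ (mul_mem hb ha), hexp b hb, hexp a ha, one_mul, one_mul, ← hc,
      show Nat.choose 4 2 = 4 + 2 from rfl, pow_add, hexp c hcD, one_mul, pow_two] at h
    exact h.symm
  let V : Subgroup G :=
    { carrier := {u | u ∈ D ∧ (∀ d ∈ D, u * d = d * u) ∧ u * u = 1}
      one_mem' := ⟨one_mem D, fun d _ => by simp, one_mul 1⟩
      mul_mem' := fun {a b} ha hb => ⟨mul_mem ha.1 hb.1, fun d hd =>
        ((show Commute a d from ha.2.1 d hd).mul_left (hb.2.1 d hd)).eq, by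
          rw [← pow_two, (show Commute a b from ha.2.1 b hb.1).mul_pow, pow_two, pow_two, ha.2.2,
            hb.2.2, one_mul]⟩
      inv_mem' := fun {a} ha => ⟨inv_mem ha.1, fun d hd =>
        (show Commute a d from ha.2.1 d hd).inv_left.eq, by rw [← mul_inv_rev, ha.2.2, inv_one]⟩ }
  have hVe : Cfsg.IsElementaryAbelian 2 V :=
    ⟨⟨⟨fun a b => Subtype.ext (a.2.2.1 b b.2.1)⟩⟩, fun a ha => by rw [pow_two]; exact ha.2.2⟩
  have hVn : Subgroup.centralizer ({z} : Set G) ≤ Subgroup.normalizer (V : Set G) := by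
    have key : ∀ g ∈ Subgroup.centralizer ({z} : Set G), ∀ v ∈ V, g * v * g⁻¹ ∈ V := by
      intro g hg v hv
      refine ⟨(Subgroup.mem_normalizer_iff.mp (hD.norm hg) v).mp hv.1, fun d hd => ?_, ?_⟩
      · have h := hv.2.1 _ ((Subgroup.mem_normalizer_iff''.mp (hD.norm hg) d).mp hd)
        calc g * v * g⁻¹ * d = g * (v * (g⁻¹ * d * g)) * g⁻¹ := by group
          _ = g * ((g⁻¹ * d * g) * v) * g⁻¹ := by rw [h]
          _ = d * (g * v * g⁻¹) := by group
      · calc g * v * g⁻¹ * (g * v * g⁻¹) = g * (v * v) * g⁻¹ := by group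
          _ = 1 := by rw [hv.2.2]; group
    intro g hg
    refine Subgroup.mem_normalizer_iff.mpr fun v => ⟨key g hg v, fun h => ?_⟩
    have h' := key g⁻¹ (inv_mem hg) _ h
    simpa [mul_assoc] using h'
  have hVz : ∀ v ∈ V, v = 1 ∨ v = z := by
    intro v hv
    by_cases hzV : z ∈ V
    · exact elementary_eq hp2 hn hmax hloc hB hBn hBz hz hz1 hVe hzV (hBz.trans hVn) hv
    · obtain ⟨hEe, -⟩ := extend (p := 2) hVe (by rw [pow_two]; exact hz) hzV fun e he =>
        Subgroup.mem_centralizer_singleton_iff.mp (hD.le he.1)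
      exact elementary_eq hp2 hn hmax hloc hB hBn hBz hz hz1 hEe
        (Subgroup.mem_sup_right (Subgroup.mem_zpowers z))
        (Coprime.le_normalizer_sup_of_le (hBz.trans hVn) (fun b hb =>
          Subgroup.centralizer_le_normalizer _ (Coprime.mem_centralizer_singleton_zpowers (hBz hb))))
        (Subgroup.mem_sup_left hv)
  have hDne : Nontrivial D := by
    by_contra hnt
    rw [not_nontrivial_iff_subsingleton] at hnt
    obtain ⟨⟨b, hb⟩, hb1⟩ := Subgroup.ne_bot_iff_exists_ne_one.mp (show B ≠ ⊥ from fun h => by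
      rw [h, Subgroup.card_bot] at hBn
      exact absurd hBn (Nat.ne_of_lt (Nat.one_lt_pow (by omega) hp.out.one_lt)))
    refine hb1 (Subtype.ext (hD.faithful b (hBz hb) ?_ fun d hd => ?_))
    · exact (((Nat.coprime_primes hp.out Nat.prime_two).mpr hp2)).coprime_dvd_left
        (orderOf_dvd_of_pow_eq_one (hB.2 b hb))
    · have hd1 : d = 1 := congrArg Subtype.val (Subsingleton.elim (⟨d, hd⟩ : D) 1)
      rw [hd1, mul_one, one_mul]
  haveI := hD.pgroup.center_nontrivial
  obtain ⟨⟨c, hc⟩, hc1⟩ := exists_ne (1 : Subgroup.center D)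
  obtain ⟨k, hk⟩ := hD.pgroup.exists_orderOf_eq_pow c
  have hzmem : z ∈ D := by
    have hk1 : k ≠ 0 := fun h => hc1 (Subtype.ext (orderOf_eq_one_iff.mp (by rw [hk, h, pow_zero])))
    set u := c ^ 2 ^ (k - 1) with hu
    have hu2 : u * u = 1 := by
      rw [← pow_two, hu, ← pow_mul, ← pow_succ, Nat.sub_add_cancel (Nat.one_le_iff_ne_zero.mpr hk1),
        ← hk, pow_orderOf_eq_one]
    have huV : (u : G) ∈ V := ⟨u.2, fun d hd =>
      (congrArg Subtype.val (Subgroup.mem_center_iff.mp (Subgroup.pow_mem _ hc _) ⟨d, hd⟩)).symm,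
      congrArg Subtype.val hu2⟩
    rcases hVz _ huV with h | h
    · exfalso
      have h' := orderOf_dvd_of_pow_eq_one (show c ^ 2 ^ (k - 1) = 1 from Subtype.ext h)
      rw [hk, Nat.pow_dvd_pow_iff_le_right one_lt_two] at h'
      omega
    · exact h ▸ u.2
  refine ⟨D, hD.le, hD.norm, hD.pgroup, hzmem, fun a ha b hb => ?_, fun a ha => ?_,
    fun u hu hc hu2 => hVz u ⟨hu, hc, hu2⟩, hD.faithful⟩
  · exact hVz _ ⟨hmemc ha hb, fun d hd => (hD.cls a ha b hb d hd).eq, hc2 a ha b hb⟩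
  · refine hVz _ ⟨mul_mem ha ha, fun d hd => ?_, ?_⟩
    · rw [← commutatorElement_eq_one_iff_mul_comm]
      calc ⁅a * a, d⁆ = a * ⁅a, d⁆ * a⁻¹ * ⁅a, d⁆ := by simp [commutatorElement_def, mul_assoc]
        _ = ⁅a, d⁆ * ⁅a, d⁆ := by rw [(hD.cls a ha d hd a ha).symm.eq, mul_inv_cancel_right]
        _ = 1 := hc2 a ha d hd
    · rw [← hexp a ha, pow_succ, pow_succ, pow_two]; group

/-- A moved invariant subgroup contains a quaternion pair. -/
theorem exists_square_pair (hp2 : p ≠ 2) (hn : 2 ≤ n) (hmax : RankBound p n G) (hloc : LocalDetect p G)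
    (hB : Cfsg.IsElementaryAbelian p B) (hBn : Nat.card B = p ^ n)
    (hBz : B ≤ Subgroup.centralizer ({z} : Set G)) (hz : z * z = 1) (hz1 : z ≠ 1)
    {D : Subgroup G} (hD : CentData z D) {P : Subgroup G} (hPD : P ≤ D)
    (hBP : B ≤ Subgroup.normalizer (P : Set G)) (hmoved : ¬ P ≤ Subgroup.centralizer (B : Set G)) :
    ∃ a ∈ P, ∃ b ∈ P, a * a = z ∧ b * b = z ∧ ⁅a, b⁆ = z := by
  have hzd : ∀ d ∈ D, z * d = d * z := fun d hd =>
    (Subgroup.mem_centralizer_singleton_iff.mp (hD.le hd)).symm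
  have hzB : ∀ β ∈ B, β * z * β⁻¹ = z := fun β hβ =>
    mul_inv_eq_iff_eq_mul.mpr (Subgroup.mem_centralizer_singleton_iff.mp (hBz hβ))
  have hodd : ∀ {c : G}, c ∈ D → c ^ p = 1 → c = 1 := fun {c} hc h => by
    obtain ⟨k, hk⟩ := hD.pgroup.exists_orderOf_eq_pow ⟨c, hc⟩
    rw [Subgroup.orderOf_mk] at hk
    exact orderOf_eq_one_iff.mp (Nat.eq_one_of_dvd_coprimes
      (((Nat.coprime_primes hp.out Nat.prime_two).mpr hp2).pow_right k)
      (orderOf_dvd_of_pow_eq_one h) (hk ▸ dvd_rfl))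
  have hinv : ∀ β ∈ B, ∀ u ∈ P, β * u * β⁻¹ ∈ P := fun β hβ u hu =>
    (Subgroup.mem_normalizer_iff.mp (hBP hβ) u).mp hu
  obtain ⟨d₀, hd₀, hd₀B⟩ := SetLike.not_le_iff_exists.mp hmoved
  obtain ⟨a, ha, β, hβ, hmove, haz⟩ : ∃ a ∈ P, ∃ β ∈ B, β * a * β⁻¹ ≠ a ∧ a * a = z := by
    by_contra hno
    push Not at hno
    have hsq : ∀ d ∈ P, ∀ β ∈ B, β * d * β⁻¹ ≠ d → d * d = 1 := fun d hd β hβ h =>
      (hD.sq d (hPD hd)).resolve_right (hno d hd β hβ h)
    obtain ⟨β, hβ, hβd⟩ : ∃ β ∈ B, β * d₀ * β⁻¹ ≠ d₀ := by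
      by_contra h
      push Not at h
      exact hd₀B fun β hβ => mul_inv_eq_iff_eq_mul.mp (h β hβ)
    set e := β * d₀ * β⁻¹ with he
    have heP : e ∈ P := hinv β hβ d₀ hd₀
    have hd2 := hsq d₀ hd₀ β hβ hβd
    have hall : ∀ u ∈ P, u * u = 1 := by
      intro u hu
      by_cases hum : ∃ γ ∈ B, γ * u * γ⁻¹ ≠ u
      · obtain ⟨γ, hγ, h⟩ := hum
        exact hsq u hu γ hγ h
      push Not at hum
      -- `u` is fixed, so `d₀ u` and `e u` are moved, and so is `d₀ e`
      have hdu : d₀ * u * d₀ = u⁻¹ := by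
        have h := hsq (d₀ * u) (mul_mem hd₀ hu) β hβ (fun h => hβd (mul_right_cancel (b := u) (by
          calc β * d₀ * β⁻¹ * u = β * d₀ * β⁻¹ * (β * u * β⁻¹) := by rw [hum β hβ]
            _ = β * (d₀ * u) * β⁻¹ := by group
            _ = d₀ * u := h)))
        exact eq_inv_of_mul_eq_one_left (by rw [← h]; group)
      have heu : e * u * e = u⁻¹ := by
        calc e * u * e = (β * d₀ * β⁻¹) * (β * u * β⁻¹) * (β * d₀ * β⁻¹) := by rw [hum β hβ]
          _ = β * (d₀ * u * d₀) * β⁻¹ := by group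
          _ = (β * u * β⁻¹)⁻¹ := by rw [hdu]; group
          _ = u⁻¹ := by rw [hum β hβ]
      have hde : ∃ γ ∈ B, γ * (d₀ * e) * γ⁻¹ ≠ d₀ * e := by
        by_contra h
        push Not at h
        refine hβd (conj_eq_self (hB.2 β hβ) (c := d₀ * e) ?_ (h β hβ)
          (hodd (hPD (mul_mem hd₀ heP))))
        rw [← mul_assoc, hd2, one_mul]
      obtain ⟨γ, hγ, hγde⟩ := hde
      have hde2 := hsq _ (mul_mem hd₀ heP) γ hγ hγde
      have hdeu := hsq (d₀ * e * u) (mul_mem (mul_mem hd₀ heP) hu) γ hγ (fun h => hγde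
        (mul_right_cancel (b := u) (by
          calc γ * (d₀ * e) * γ⁻¹ * u = γ * (d₀ * e) * γ⁻¹ * (γ * u * γ⁻¹) := by rw [hum γ hγ]
            _ = γ * (d₀ * e * u) * γ⁻¹ := by group
            _ = d₀ * e * u := h)))
      have hed : d₀ * e = e * d₀ := by
        have he2 : e * e = 1 := by
          rw [he]
          calc β * d₀ * β⁻¹ * (β * d₀ * β⁻¹) = β * (d₀ * d₀) * β⁻¹ := by group
            _ = 1 := by rw [hd2]; group
        rw [← inv_eq_of_mul_eq_one_right hde2, mul_inv_rev, inv_eq_of_mul_eq_one_right he2,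
          inv_eq_of_mul_eq_one_right hd2]
      calc u * u = (d₀ * e * u * (d₀ * e)) * u := by
            congr 1
            calc u = (u⁻¹)⁻¹ := (inv_inv u).symm
              _ = (d₀ * u * d₀)⁻¹ := by rw [hdu]
              _ = d₀ * u⁻¹ * d₀ := by
                rw [mul_inv_rev, mul_inv_rev, inv_eq_of_mul_eq_one_right hd2]; group
              _ = d₀ * (e * u * e) * d₀ := by rw [heu]
              _ = d₀ * e * u * (e * d₀) := by group
              _ = _ := by rw [hed]
        _ = (d₀ * e * u) * (d₀ * e * u) := by group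
        _ = 1 := hdeu
    have hPe : Cfsg.IsElementaryAbelian 2 P := by
      refine ⟨⟨⟨fun u v => Subtype.ext ?_⟩⟩, fun u hu => by rw [pow_two]; exact hall u hu⟩
      have h := inv_eq_of_mul_eq_one_right (hall _ (mul_mem u.2 v.2))
      rw [mul_inv_rev, inv_eq_of_mul_eq_one_right (hall _ v.2),
        inv_eq_of_mul_eq_one_right (hall _ u.2)] at h
      exact h.symm
    have hfin : ∀ x ∈ P, x = 1 ∨ x = z := by
      intro x hx
      by_cases hzP : z ∈ P
      · exact elementary_eq hp2 hn hmax hloc hB hBn hBz hz hz1 hPe hzP hBP hx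
      · obtain ⟨hEe, -⟩ := extend (p := 2) hPe (by rw [pow_two]; exact hz) hzP
          fun x hx => (hzd x (hPD hx)).symm
        exact elementary_eq hp2 hn hmax hloc hB hBn hBz hz hz1 hEe
          (Subgroup.mem_sup_right (Subgroup.mem_zpowers z))
          (Coprime.le_normalizer_sup_of_le hBP (fun b hb =>
            Subgroup.centralizer_le_normalizer _ (Coprime.mem_centralizer_singleton_zpowers (hBz hb))))
          (Subgroup.mem_sup_left hx)
    rcases hfin d₀ hd₀ with h | h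
    · exact hβd (by rw [he, h]; group)
    · exact hβd (by rw [he, h]; exact hzB β hβ)
  refine ⟨a, ha, ?_⟩
  by_contra hno
  push Not at hno
  have hcomm : ∀ γ ∈ B, ∀ δ ∈ B, Commute (γ * a * γ⁻¹) (δ * a * δ⁻¹) := by
    intro γ hγ δ hδ
    set η := γ⁻¹ * δ with hη
    have hηB : η ∈ B := mul_mem (inv_mem hγ) hδ
    have h1 : (η * a * η⁻¹) * (η * a * η⁻¹) = z := by
      calc (η * a * η⁻¹) * (η * a * η⁻¹) = η * (a * a) * η⁻¹ := by group
        _ = z := by rw [haz, hzB η hηB]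
    have hc : Commute a (η * a * η⁻¹) := commutatorElement_eq_one_iff_commute.mp
      ((hD.comm a (hPD ha) _ (hPD (hinv η hηB a ha))).resolve_right (hno _ (hinv η hηB a ha) haz h1))
    have h2 := hc.map (MulAut.conj γ).toMonoidHom
    simp only [MulEquiv.coe_toMonoidHom, MulAut.conj_apply] at h2
    rw [show δ * a * δ⁻¹ = γ * (η * a * η⁻¹) * γ⁻¹ by rw [hη]; group]
    exact h2
  set a' := β * a * β⁻¹ with ha'
  have hc : Commute a a' := by simpa using hcomm 1 (one_mem B) β hβ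
  have ha'2 : a' * a' = z := by
    calc a' * a' = β * (a * a) * β⁻¹ := by rw [ha']; group
      _ = z := by rw [haz, hzB β hβ]
  -- the involutions in the abelian group generated by the conjugates
  set U : Subgroup G := Subgroup.closure ({x | ∃ γ ∈ B, x = γ * a * γ⁻¹} ∪ {z}) with hU
  have hgenD : ∀ x ∈ ({x | ∃ γ ∈ B, x = γ * a * γ⁻¹} ∪ {z} : Set G), x ∈ D := by
    rintro x (⟨γ, hγ, rfl⟩ | rfl)
    · exact hPD (hinv γ hγ a ha)
    · exact hD.mem
  have hUab : U ≤ Subgroup.centralizer (U : Set G) := by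
    have key : ∀ x ∈ ({x | ∃ γ ∈ B, x = γ * a * γ⁻¹} ∪ {z} : Set G),
        ∀ y ∈ ({x | ∃ γ ∈ B, x = γ * a * γ⁻¹} ∪ {z} : Set G), x * y = y * x := by
      intro x hx y hy
      rcases hy with ⟨δ, hδ, rfl⟩ | rfl
      · rcases hx with ⟨γ, hγ, rfl⟩ | rfl
        · exact (hcomm γ hγ δ hδ).eq
        · exact hzd _ (hPD (hinv δ hδ a ha))
      · exact (hzd x (hgenD x hx)).symm
    refine (Subgroup.closure_le _).mpr fun x hx => ?_
    rw [SetLike.mem_coe, Subgroup.centralizer_closure]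
    exact fun y hy => key y hy x hx
  have hUc : ∀ x ∈ U, ∀ y ∈ U, x * y = y * x := fun x hx y hy => (hUab hx y hy).symm
  let K : Subgroup G :=
    { carrier := {u | u ∈ U ∧ u * u = 1}
      one_mem' := ⟨one_mem U, one_mul 1⟩
      mul_mem' := fun {u v} hu hv => ⟨mul_mem hu.1 hv.1, by
        rw [← pow_two, (show Commute u v from hUc u hu.1 v hv.1).mul_pow, pow_two, pow_two, hu.2, hv.2,
          one_mul]⟩
      inv_mem' := fun {u} hu => ⟨inv_mem hu.1, by rw [← mul_inv_rev, hu.2, inv_one]⟩ }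
  have hKe : Cfsg.IsElementaryAbelian 2 K :=
    ⟨⟨⟨fun u v => Subtype.ext (hUc u u.2.1 v v.2.1)⟩⟩, fun u hu => by rw [pow_two]; exact hu.2⟩
  have hBU : ∀ γ ∈ B, ∀ u ∈ U, γ * u * γ⁻¹ ∈ U := by
    intro γ hγ u hu
    have h : U.map (MulAut.conj γ).toMonoidHom ≤ U := by
      rw [hU, MonoidHom.map_closure]
      refine Subgroup.closure_mono ?_
      rintro _ ⟨x, hx, rfl⟩
      rcases hx with ⟨δ, hδ, rfl⟩ | rfl
      · exact Or.inl ⟨γ * δ, mul_mem hγ hδ, by simp [mul_assoc]⟩
      · exact Or.inr (by simpa using hzB γ hγ)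
    exact h ⟨u, hu, rfl⟩
  have hBK : B ≤ Subgroup.normalizer (K : Set G) := by
    have key : ∀ γ ∈ B, ∀ u ∈ K, γ * u * γ⁻¹ ∈ K := fun γ hγ u hu => ⟨hBU γ hγ u hu.1, by
      calc γ * u * γ⁻¹ * (γ * u * γ⁻¹) = γ * (u * u) * γ⁻¹ := by group
        _ = 1 := by rw [hu.2]; group⟩
    intro γ hγ
    refine Subgroup.mem_normalizer_iff.mpr fun v => ⟨key γ hγ v, fun h => ?_⟩
    have h' := key γ⁻¹ (inv_mem hγ) _ h
    simpa [mul_assoc] using h'
  have haU : a ∈ U := Subgroup.subset_closure (Or.inl ⟨1, one_mem B, by group⟩)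
  have ha'U : a' ∈ U := Subgroup.subset_closure (Or.inl ⟨β, hβ, rfl⟩)
  rcases elementary_eq hp2 hn hmax hloc hB hBn hBz hz hz1 hKe
    ⟨Subgroup.subset_closure (Or.inr rfl), hz⟩ hBK
    (v := a * a') ⟨mul_mem haU ha'U, by rw [← pow_two, hc.mul_pow, pow_two, pow_two, haz, ha'2, hz]⟩
    with h | h
  · refine hmove (conj_eq_self (hB.2 β hβ) (c := z) ?_ (hzB β hβ) (hodd hD.mem))
    rw [← haz, ← ha', ← mul_assoc]
    calc a' = a⁻¹ := eq_inv_of_mul_eq_one_right h
      _ = a * (a * a)⁻¹ := by group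
      _ = a * a * a := by rw [haz, inv_eq_of_mul_eq_one_right hz, (hzd a (hPD ha))]
  · exact hmove (mul_left_cancel (a := a) (h.trans haz.symm))

end CfsgLib.WeightRank
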