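import Cfsg.Agent.Lib.WeightRank.CentInvolution

/-!
In a group of local characteristic `p` and characteristic two type, `p` odd, the 2-local `p`-rank
is at most two (Klinger–Mason). An involution `z` centralizing an elementary abelian `p`-group of
largest rank gives two quaternion pieces in `CentData z`; the weights of the resulting elementary
group of order eight give a second involution `w` of the same kind, and a `p`-element inverted by
`z` must then centralize `CentData w`.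
-/

set_option autoImplicit false
set_option linter.style.haveILetI false
set_option linter.unusedSectionVars false

open scoped commutatorElement

namespace CfsgLib.WeightRank

variable {G : Type*} [Group G] [Finite G] {p : ℕ} [hp : Fact p.Prime]

theorem mem_normalizer_of_invariant {K : Subgroup G} {g : G} (h : ∀ x ∈ K, g * x * g⁻¹ ∈ K) :
    g ∈ Subgroup.normalizer (K : Set G) := by
  have hle : K.map (MulAut.conj g).toMonoidHom ≤ K := by
    rintro _ ⟨x, hx, rfl⟩; exact h x hx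
  have heq := Subgroup.eq_of_le_of_card_ge hle
    (Subgroup.card_map_of_injective (MulAut.conj g).injective).ge
  refine Subgroup.mem_normalizer_iff.mpr fun x => ⟨h x, fun hx => ?_⟩
  rw [← heq] at hx
  obtain ⟨y, hy, hye⟩ := hx
  rwa [← (MulAut.conj g).injective hye]

theorem CentData.odd {z : G} {D : Subgroup G} (hD : CentData z D) (hp2 : p ≠ 2) {c : G} (hc : c ∈ D)
    (h : c ^ p = 1) : c = 1 := by
  obtain ⟨k, hk⟩ := hD.pgroup.exists_orderOf_eq_pow ⟨c, hc⟩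
  rw [Subgroup.orderOf_mk] at hk
  exact orderOf_eq_one_iff.mp (Nat.eq_one_of_dvd_coprimes
    (((Nat.coprime_primes hp.out Nat.prime_two).mpr hp2).pow_right k)
    (orderOf_dvd_of_pow_eq_one h) (hk ▸ dvd_rfl))

theorem CentData.eq_one_of_commute {z : G} {D : Subgroup G} (hD : CentData z D) (hp2 : p ≠ 2) {g : G}
    (hg : g ^ p = 1) (hgz : g * z = z * g) (h : ∀ d ∈ D, g * d = d * g) : g = 1 :=
  hD.faithful g (Subgroup.mem_centralizer_singleton_iff.mpr hgz)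
    (((Nat.coprime_primes hp.out Nat.prime_two).mpr hp2).coprime_dvd_left (orderOf_dvd_of_pow_eq_one hg)) h

theorem commute_commutator {u α δ : G} (h : α * δ = δ * α) (h' : Commute α (u⁻¹ * δ * u)) :
    Commute ⁅u, α⁆ δ := by
  show ⁅u, α⁆ * δ = δ * ⁅u, α⁆
  rw [← mul_inv_eq_iff_eq_mul, commutatorElement_def]
  calc u * α * u⁻¹ * α⁻¹ * δ * (u * α * u⁻¹ * α⁻¹)⁻¹
      = u * α * u⁻¹ * (α⁻¹ * δ * α) * u * α⁻¹ * u⁻¹ := by group
    _ = u * (α * (u⁻¹ * δ * u)) * α⁻¹ * u⁻¹ := by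
        rw [mul_assoc α⁻¹ δ α, ← h, inv_mul_cancel_left]; group
    _ = δ := by rw [h'.eq]; group

/-- Commutators with a group fixing `z` centralize its fixed points. -/
theorem CentData.commutator_commute {z : G} {D : Subgroup G} (hD : CentData z D) {α u δ : G}
    (hαz : α * z = z * α) (hu : u ∈ D) (hδ : δ ∈ D) (hαδ : α * δ = δ * α) : Commute ⁅u, α⁆ δ := by
  refine commute_commutator hαδ ?_
  have hM : u⁻¹ * δ * u = ⁅u⁻¹, δ⁆ * δ := by rw [commutatorElement_def]; group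
  rw [hM]
  refine Commute.mul_right ?_ hαδ
  rcases hD.comm _ (inv_mem hu) _ hδ with h | h <;> rw [h]
  · exact Commute.one_right α
  · exact hαz

theorem card_le_mul {A B : Subgroup G} (hA : A ≤ B) (hi : A.relIndex B ≤ p) :
    Nat.card B ≤ p * Nat.card A := by
  have h := Coprime.relIndex_mul_card_inf A B
  rw [inf_eq_left.mpr hA] at h
  exact h ▸ Nat.mul_le_mul_right _ hi

variable {n : ℕ} {z : G} {B : Subgroup G}

/-- Two commuting quaternion pieces in the fixed points of `A ≤ B` of corank two. -/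
theorem exists_two_pairs (hp2 : p ≠ 2) (hn : 3 ≤ n) (hmax : RankBound p n G) (hloc : LocalDetect p G)
    (hB : Cfsg.IsElementaryAbelian p B) (hBn : Nat.card B = p ^ n)
    (hBz : B ≤ Subgroup.centralizer ({z} : Set G)) (hz : z * z = 1) (hz1 : z ≠ 1)
    {D : Subgroup G} (hD : CentData z D) :
    ∃ A : Subgroup G, A ≤ B ∧ A ≠ ⊥ ∧ p ^ n ≤ p * (p * Nat.card A) ∧
      ∃ a₁ b₁ a₂ b₂ : G, (a₁ ∈ D ⊓ Subgroup.centralizer (A : Set G) ∧
        b₁ ∈ D ⊓ Subgroup.centralizer (A : Set G) ∧ a₁ * a₁ = z ∧ b₁ * b₁ = z ∧ ⁅a₁, b₁⁆ = z) ∧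
        (a₂ ∈ D ⊓ Subgroup.centralizer (A : Set G) ∧
        b₂ ∈ D ⊓ Subgroup.centralizer (A : Set G) ∧ a₂ * a₂ = z ∧ b₂ * b₂ = z ∧ ⁅a₂, b₂⁆ = z) ∧
        Commute a₁ a₂ ∧ Commute a₁ b₂ ∧ Commute b₁ a₂ ∧ Commute b₁ b₂ := by
  haveI : Fact (Nat.Prime 2) := ⟨Nat.prime_two⟩
  haveI := hB.1
  have hBD : B ≤ Subgroup.normalizer (D : Set G) := hBz.trans hD.norm
  have hBp : IsPGroup p B := IsPGroup.of_card hBn
  have hBp2 : p ^ 2 ≤ Nat.card B := hBn ▸ Nat.pow_le_pow_right hp.out.pos (by omega)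
  have hcop : (Nat.card B).Coprime (Nat.card D) := IsPGroup.coprime_card_of_ne p 2 hp2 _ _ hBp hD.pgroup
  have hbig : ∀ X ≤ B, p ^ n ≤ p * (p * Nat.card X) → X ≠ ⊥ := by
    intro X _ hX h
    rw [h, Subgroup.card_bot, mul_one, ← pow_two, Nat.pow_le_pow_iff_right hp.out.one_lt] at hX
    omega
  have hdet : ∀ X ≤ B, X ≠ ⊥ → ¬ D ≤ Subgroup.centralizer (X : Set G) := by
    intro X hX hX1 hDX
    obtain ⟨⟨x, hx⟩, hx1⟩ := Subgroup.ne_bot_iff_exists_ne_one.mp hX1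
    exact hx1 (Subtype.ext (hD.eq_one_of_commute hp2 (hB.2 x (hX hx))
      (Subgroup.mem_centralizer_singleton_iff.mp (hBz (hX hx))) fun d hd => hDX hd x hx))
  have hBne : B ≠ ⊥ := hbig B le_rfl (by
    rw [hBn]; exact Nat.le_mul_of_pos_left _ hp.out.pos |>.trans (Nat.le_mul_of_pos_left _ hp.out.pos))
  obtain ⟨A₁, hA₁, hi₁, hm₁⟩ : ∃ X ≤ B, X.relIndex B ≤ p ∧
      ¬ D ⊓ Subgroup.centralizer (X : Set G) ≤ Subgroup.centralizer (B : Set G) := by
    by_contra hno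
    push Not at hno
    exact hdet B le_rfl hBne (Coprime.le_of_hyperplane_centralizer_le hB.1 hB.2 hBp2 hBD hcop hno)
  have hc₁ := hBn ▸ card_le_mul hA₁ hi₁
  obtain ⟨A₂, hA₂, hi₂, hm₂, hne⟩ : ∃ X ≤ B, X.relIndex B ≤ p ∧
      ¬ D ⊓ Subgroup.centralizer (X : Set G) ≤ Subgroup.centralizer (B : Set G) ∧ ¬ A₁ ≤ X := by
    by_contra hno
    push Not at hno
    refine hdet A₁ hA₁ (hbig A₁ hA₁ (hc₁.trans (Nat.le_mul_of_pos_left _ hp.out.pos)))
      (Coprime.le_of_hyperplane_centralizer_le hB.1 hB.2 hBp2 hBD hcop fun X hX hXi => ?_)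
    by_cases hm : D ⊓ Subgroup.centralizer (X : Set G) ≤ Subgroup.centralizer (B : Set G)
    · exact hm.trans (Subgroup.centralizer_le hA₁)
    · exact inf_le_right.trans (Subgroup.centralizer_le (hno X hX hXi hm))
  have hc₂ := hBn ▸ card_le_mul hA₂ hi₂
  have hBab : ∀ x ∈ B, ∀ y ∈ B, x * y = y * x := fun x hx y hy => mul_comm_of_ea hB hx hy
  have hnorm : ∀ {X Y : Subgroup G}, X ≤ B → Y ≤ B → X ≤ Subgroup.normalizer (Y : Set G) :=
    fun hX hY x hx => Subgroup.centralizer_le_normalizer _ fun y hy => hBab y (hY hy) x (hX hx)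
  have hsup : A₁ ⊔ A₂ = B := by
    obtain ⟨α, hα, hαn⟩ := SetLike.not_le_iff_exists.mp hne
    obtain ⟨-, hcard⟩ := extend (ea_mono hA₂ hB) (hB.2 α (hA₁ hα)) hαn
      fun e he => hBab e (hA₂ he) α (hA₁ hα)
    refine Subgroup.eq_of_le_of_card_ge (sup_le hA₁ hA₂) ?_
    rw [hBn]
    exact (hc₂.trans hcard.ge).trans (Subgroup.card_le_of_le
      (sup_le le_sup_right (Subgroup.zpowers_le.mpr (Subgroup.mem_sup_left hα))))
  have key : ∀ X ≤ B, ¬ D ⊓ Subgroup.centralizer (X : Set G) ≤ Subgroup.centralizer (B : Set G) →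
      ∀ Y ≤ B, X ⊔ Y = B → ∃ a b : G, a ∈ D ⊓ Subgroup.centralizer (X : Set G) ∧
        b ∈ D ⊓ Subgroup.centralizer (X : Set G) ∧ a * a = z ∧ b * b = z ∧ ⁅a, b⁆ = z ∧
        (∀ δ ∈ D ⊓ Subgroup.centralizer (Y : Set G), Commute a δ ∧ Commute b δ) := by
    intro X hX hm Y hY hXY
    set U := D ⊓ Subgroup.centralizer (X : Set G) with hU
    have hBU : B ≤ Subgroup.normalizer (U : Set G) := Coprime.le_normalizer_inf_of_le hBD
      (((le_centralizer_self_of_ea hB).trans (Subgroup.centralizer_le hX)).trans Subgroup.le_normalizer)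
    set P := ⁅U, B⁆ with hP
    have hPU : P ≤ U := Coprime.commutator_le_left_of_le_normalizer hBU
    have hPm : ¬ P ≤ Subgroup.centralizer (B : Set G) := fun h => hm
      (Subgroup.commutator_eq_bot_iff_le_centralizer.mp
        (Coprime.commutator_eq_bot_of_commutator_commutator hBU
          (hcop.coprime_dvd_right (Subgroup.card_dvd_of_le inf_le_left))
          (Subgroup.commutator_eq_bot_iff_le_centralizer.mpr h)))
    have hPc : P ≤ Subgroup.centralizer ((D ⊓ Subgroup.centralizer (Y : Set G) : Subgroup G) : Set G) := by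
      refine Subgroup.commutator_le.mpr fun u hu β hβ δ hδ => ?_
      rw [← hXY, ← SetLike.mem_coe, Subgroup.coe_mul_of_right_le_normalizer_left X _ (hnorm hY hX),
        Set.mem_mul] at hβ
      obtain ⟨α, hα, α', hα', rfl⟩ := hβ
      have h1 : Commute α u := hu.2 α hα
      have h2 : Commute α α' := hBab α (hX hα) α' (hY hα')
      have he : ⁅u, α * α'⁆ = ⁅u, α'⁆ := by
        have h3 : Commute α (u * α' * u⁻¹ * α'⁻¹) :=
          ((h1.mul_right h2).mul_right h1.inv_right).mul_right h2.inv_right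
        calc ⁅u, α * α'⁆ = (u * α) * α' * u⁻¹ * α'⁻¹ * α⁻¹ := by rw [commutatorElement_def]; group
          _ = α * (u * α' * u⁻¹ * α'⁻¹) * α⁻¹ := by rw [← h1.eq]; group
          _ = ⁅u, α'⁆ := by rw [h3.eq, mul_inv_cancel_right, commutatorElement_def]
      rw [he]
      exact (hD.commutator_commute (Subgroup.mem_centralizer_singleton_iff.mp (hBz (hY hα'))) hu.1
        hδ.1 (hδ.2 α' hα')).symm.eq
    obtain ⟨a, ha, b, hb, ha2, hb2, hab⟩ := exists_square_pair hp2 (by omega) hmax hloc hB hBn hBz hz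
      hz1 hD (hPU.trans inf_le_left) (Coprime.le_normalizer_commutator hBU Subgroup.le_normalizer) hPm
    exact ⟨a, b, hPU ha, hPU hb, ha2, hb2, hab,
      fun δ hδ => ⟨(hPc ha δ hδ).symm, (hPc hb δ hδ).symm⟩⟩
  obtain ⟨a₁, b₁, ha₁, hb₁, ha₁2, hb₁2, hab₁, hcm⟩ := key A₁ hA₁ hm₁ A₂ hA₂ hsup
  obtain ⟨a₂, b₂, ha₂, hb₂, ha₂2, hb₂2, hab₂, -⟩ := key A₂ hA₂ hm₂ A₁ hA₁ (sup_comm A₁ A₂ ▸ hsup)
  have hAc : p ^ n ≤ p * (p * Nat.card ↥(A₁ ⊓ A₂)) := by
    refine hc₁.trans (Nat.mul_le_mul_left p (card_le_mul inf_le_left ?_))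
    rw [Subgroup.inf_relIndex_left]
    refine (Subgroup.relIndex_le_of_le_right hA₁ fun h0 => ?_).trans hi₂
    have := Coprime.relIndex_mul_card_inf A₂ B
    rw [h0, zero_mul] at this
    exact Nat.card_pos.ne' this.symm
  exact ⟨A₁ ⊓ A₂, inf_le_left.trans hA₁, hbig _ (inf_le_left.trans hA₁) hAc, hAc, a₁, b₁, a₂, b₂,
    ⟨⟨ha₁.1, Subgroup.centralizer_le inf_le_left ha₁.2⟩,
      ⟨hb₁.1, Subgroup.centralizer_le inf_le_left hb₁.2⟩, ha₁2, hb₁2, hab₁⟩,
    ⟨⟨ha₂.1, Subgroup.centralizer_le inf_le_right ha₂.2⟩,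
      ⟨hb₂.1, Subgroup.centralizer_le inf_le_right hb₂.2⟩, ha₂2, hb₂2, hab₂⟩,
    (hcm a₂ ha₂).1, (hcm b₂ hb₂).1, (hcm a₂ ha₂).2, (hcm b₂ hb₂).2⟩

theorem mem_sup_zpowers {E : Subgroup G} {y q : G} (hy : y * y = 1) (hc : ∀ e ∈ E, e * y = y * e)
    (hq : q ∈ E ⊔ Subgroup.zpowers y) : q ∈ E ∨ ∃ e ∈ E, q = e * y := by
  have hN : Subgroup.zpowers y ≤ Subgroup.normalizer (E : Set G) :=
    (Subgroup.zpowers_le.mpr (show y ∈ Subgroup.centralizer (E : Set G) from fun e he => hc e he)).trans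
      (Subgroup.centralizer_le_normalizer _)
  rw [← SetLike.mem_coe, Subgroup.coe_mul_of_right_le_normalizer_left E _ hN, Set.mem_mul] at hq
  obtain ⟨e, he, t, ht, rfl⟩ := hq
  rcases mem_zpowers_two hy ht with rfl | rfl
  · exact Or.inl (by rwa [mul_one])
  · exact Or.inr ⟨e, he, rfl⟩

/-- The elementary group of order eight. -/
theorem exists_eight {D : Subgroup G} (hD : CentData z D) (hz : z * z = 1) (hz1 : z ≠ 1)
    {A : Subgroup G} (hAz : A ≤ Subgroup.centralizer ({z} : Set G)) {a₁ b₁ a₂ b₂ : G}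
    (h₁ : a₁ ∈ D ⊓ Subgroup.centralizer (A : Set G) ∧
        b₁ ∈ D ⊓ Subgroup.centralizer (A : Set G) ∧ a₁ * a₁ = z ∧ b₁ * b₁ = z ∧ ⁅a₁, b₁⁆ = z)
    (h₂ : a₂ ∈ D ⊓ Subgroup.centralizer (A : Set G) ∧
        b₂ ∈ D ⊓ Subgroup.centralizer (A : Set G) ∧ a₂ * a₂ = z ∧ b₂ * b₂ = z ∧ ⁅a₂, b₂⁆ = z)
    (c₁ : Commute a₁ a₂) (c₂ : Commute a₁ b₂) (c₃ : Commute b₁ a₂) (c₄ : Commute b₁ b₂) :
    ∃ Q : Subgroup G, Cfsg.IsElementaryAbelian 2 Q ∧ Q ≤ D ⊓ Subgroup.centralizer (A : Set G) ∧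
      Nat.card Q = 8 ∧ z ∈ Q ∧ ∀ q ∈ Q, q ≠ 1 → q ≠ z →
        (∃ d ∈ D ⊓ Subgroup.centralizer (A : Set G), d * q * d⁻¹ = q * z) ∧
        ∃ h ∈ D ⊓ Subgroup.centralizer (A : Set G), Commute h q ∧ h * h = z := by
  haveI : Fact (Nat.Prime 2) := ⟨Nat.prime_two⟩
  obtain ⟨ha₁, hb₁, ha₁2, hb₁2, hab₁⟩ := h₁
  obtain ⟨ha₂, hb₂, ha₂2, hb₂2, hab₂⟩ := h₂
  set S := D ⊓ Subgroup.centralizer (A : Set G) with hS
  have hzc : ∀ d ∈ D, Commute z d := fun d hd =>
    ((Subgroup.mem_centralizer_singleton_iff.mp (hD.le hd)) : Commute d z).symm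
  have hzS : z ∈ S := ⟨hD.mem, fun a ha => Subgroup.mem_centralizer_singleton_iff.mp (hAz ha)⟩
  have hzi : z⁻¹ = z := inv_eq_of_mul_eq_one_right hz
  have hswap : ∀ {a b : G}, a ∈ D → b ∈ D → ⁅a, b⁆ = z →
      a * b * a⁻¹ = b * z ∧ b * a * b⁻¹ = a * z := by
    intro a b ha hb h
    refine ⟨?_, ?_⟩
    · rw [← (hzc b hb).eq]
      exact mul_inv_eq_iff_eq_mul.mp (by rw [← h, commutatorElement_def])
    · rw [← (hzc a ha).eq]
      refine mul_inv_eq_iff_eq_mul.mp ?_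
      calc b * a * b⁻¹ * a⁻¹ = ⁅a, b⁆⁻¹ := by rw [commutatorElement_def]; group
        _ = z := by rw [h, hzi]
  obtain ⟨ab₁, ba₁⟩ := hswap ha₁.1 hb₁.1 hab₁
  obtain ⟨ab₂, ba₂⟩ := hswap ha₂.1 hb₂.1 hab₂
  set w₁ := a₁ * a₂ with hw₁
  set w₂ := b₁ * b₂ with hw₂
  have hw₁S : w₁ ∈ S := mul_mem ha₁ ha₂
  have hw₂S : w₂ ∈ S := mul_mem hb₁ hb₂
  have hw₁2 : w₁ * w₁ = 1 := by rw [hw₁, ← pow_two, c₁.mul_pow, pow_two, pow_two, ha₁2, ha₂2, hz]
  have hw₂2 : w₂ * w₂ = 1 := by rw [hw₂, ← pow_two, c₄.mul_pow, pow_two, pow_two, hb₁2, hb₂2, hz]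
  have a1w1 : a₁ * w₁ * a₁⁻¹ = w₁ :=
    mul_inv_eq_iff_eq_mul.mpr (((Commute.refl a₁).mul_right c₁).eq)
  have b1w2 : b₁ * w₂ * b₁⁻¹ = w₂ :=
    mul_inv_eq_iff_eq_mul.mpr (((Commute.refl b₁).mul_right c₄).eq)
  have a1w2 : a₁ * w₂ * a₁⁻¹ = w₂ * z := by
    calc a₁ * w₂ * a₁⁻¹ = (a₁ * b₁ * a₁⁻¹) * (a₁ * b₂ * a₁⁻¹) := by rw [hw₂]; group
      _ = b₁ * (z * b₂) := by rw [ab₁, mul_inv_eq_iff_eq_mul.mpr c₂.eq, mul_assoc]
      _ = w₂ * z := by rw [(hzc b₂ hb₂.1).eq, hw₂, mul_assoc]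
  have b1w1 : b₁ * w₁ * b₁⁻¹ = w₁ * z := by
    calc b₁ * w₁ * b₁⁻¹ = (b₁ * a₁ * b₁⁻¹) * (b₁ * a₂ * b₁⁻¹) := by rw [hw₁]; group
      _ = a₁ * (z * a₂) := by rw [ba₁, mul_inv_eq_iff_eq_mul.mpr c₃.eq, mul_assoc]
      _ = w₁ * z := by rw [(hzc a₂ ha₂.1).eq, hw₁, mul_assoc]
  have hw12 : w₁ * w₂ = w₂ * w₁ := by
    have e₁ : a₁ * b₁ = b₁ * z * a₁ := mul_inv_eq_iff_eq_mul.mp ab₁
    have e₂ : a₂ * b₂ = b₂ * z * a₂ := mul_inv_eq_iff_eq_mul.mp ab₂
    calc w₁ * w₂ = a₁ * (a₂ * b₁) * b₂ := by rw [hw₁, hw₂]; group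
      _ = (a₁ * b₁) * (a₂ * b₂) := by rw [← c₃.eq]; group
      _ = b₁ * z * a₁ * (b₂ * z * a₂) := by rw [e₁, e₂]
      _ = b₁ * (z * (a₁ * b₂)) * z * a₂ := by group
      _ = b₁ * (a₁ * b₂ * z) * z * a₂ := by rw [(hzc _ (mul_mem ha₁.1 hb₂.1)).eq]
      _ = b₁ * (a₁ * b₂) * (z * z) * a₂ := by group
      _ = w₂ * w₁ := by rw [hz, c₂.eq, hw₁, hw₂]; group
  have hne : ∀ {d q : G}, d ∈ D → d * q * d⁻¹ = q * z → q ∉ Subgroup.zpowers z := by
    intro d q hd hq hmem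
    have hdz : Commute d z := (hzc d hd).symm
    have hfix : d * q * d⁻¹ = q := by
      rcases mem_zpowers_two hz hmem with rfl | rfl
      · group
      · exact mul_inv_eq_iff_eq_mul.mpr hdz.eq
    exact hz1 (left_eq_mul.mp (hfix.symm.trans hq))
  have hQ₀ : Cfsg.IsElementaryAbelian 2 (Subgroup.zpowers z) := by
    refine ⟨inferInstance, fun q hq => ?_⟩
    rcases mem_zpowers_two hz hq with rfl | rfl
    · exact one_pow 2
    · rw [pow_two]; exact hz
  have hc₁ : ∀ e ∈ Subgroup.zpowers z, e * w₁ = w₁ * e := fun e he => by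
    rcases mem_zpowers_two hz he with rfl | rfl
    · rw [one_mul, mul_one]
    · exact (hzc w₁ hw₁S.1).eq
  obtain ⟨hQ₁, hQ₁c⟩ := extend hQ₀ (y := w₁) (by rw [pow_two]; exact hw₁2) (hne hb₁.1 b1w1) hc₁
  have hw₂n : w₂ ∉ Subgroup.zpowers z ⊔ Subgroup.zpowers w₁ := by
    intro hmem
    have h : Subgroup.zpowers z ⊔ Subgroup.zpowers w₁ ≤ Subgroup.centralizer ({a₁} : Set G) :=
      sup_le (Subgroup.zpowers_le.mpr (Subgroup.mem_centralizer_singleton_iff.mpr (hzc a₁ ha₁.1).eq))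
        (Subgroup.zpowers_le.mpr (Subgroup.mem_centralizer_singleton_iff.mpr
          (((Commute.refl a₁).mul_right c₁).symm.eq)))
    have h' := mul_inv_eq_iff_eq_mul.mpr (Subgroup.mem_centralizer_singleton_iff.mp (h hmem)).symm
    rw [a1w2] at h'
    exact hz1 (mul_eq_left.mp h')
  have hc₂ : ∀ e ∈ Subgroup.zpowers z ⊔ Subgroup.zpowers w₁, e * w₂ = w₂ * e := by
    intro e he
    rcases mem_sup_zpowers hw₁2 hc₁ he with h | ⟨e', he', rfl⟩
    · rcases mem_zpowers_two hz h with rfl | rfl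
      · rw [one_mul, mul_one]
      · exact (hzc w₂ hw₂S.1).eq
    · rcases mem_zpowers_two hz he' with rfl | rfl
      · rw [one_mul, hw12]
      · exact ((hzc w₂ hw₂S.1).mul_left (hw12 : Commute w₁ w₂)).eq
  obtain ⟨hQ, hQc⟩ := extend hQ₁ (y := w₂) (by rw [pow_two]; exact hw₂2) hw₂n hc₂
  set Q := Subgroup.zpowers z ⊔ Subgroup.zpowers w₁ ⊔ Subgroup.zpowers w₂ with hQdef
  refine ⟨Q, hQ, sup_le (sup_le (Subgroup.zpowers_le.mpr hzS) (Subgroup.zpowers_le.mpr hw₁S))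
    (Subgroup.zpowers_le.mpr hw₂S), ?_, ?_, fun q hq hq1 hqz => ?_⟩
  · rw [hQc, hQ₁c, Nat.card_zpowers, orderOf_eq_prime (by rw [pow_two]; exact hz) hz1]
  · exact Subgroup.mem_sup_left (Subgroup.mem_sup_left (Subgroup.mem_zpowers z))
  have conj_mul : ∀ {d e f g : G}, d * e * d⁻¹ = e → d * f * d⁻¹ = g →
      d * (e * f) * d⁻¹ = e * g := by
    intro d e f g he hf
    calc d * (e * f) * d⁻¹ = (d * e * d⁻¹) * (d * f * d⁻¹) := by group
      _ = e * g := by rw [he, hf]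
  have fin : ∀ e ∈ Subgroup.zpowers z, ∀ {f d h : G}, d ∈ S → h ∈ S → d * f * d⁻¹ = f * z →
      h * f * h⁻¹ = f → h * h = z →
      (∃ d ∈ S, d * (e * f) * d⁻¹ = e * f * z) ∧ ∃ h ∈ S, Commute h (e * f) ∧ h * h = z := by
    intro e he f d h hd hh hdf hhf hh2
    have hfix : ∀ g ∈ D, g * e * g⁻¹ = e := fun g hg => by
      rcases mem_zpowers_two hz he with rfl | rfl
      · group
      · exact mul_inv_eq_iff_eq_mul.mpr (hzc g hg).symm.eq
    exact ⟨⟨d, hd, by rw [conj_mul (hfix d hd.1) hdf, mul_assoc]⟩, h, hh,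
      mul_inv_eq_iff_eq_mul.mp (conj_mul (hfix h hh.1) hhf), hh2⟩
  rcases mem_sup_zpowers hw₂2 hc₂ hq with h | ⟨e, he, rfl⟩
  · rcases mem_sup_zpowers hw₁2 hc₁ h with h' | ⟨e', he', rfl⟩
    · rcases mem_zpowers_two hz h' with h'' | h''
      · exact absurd h'' hq1
      · exact absurd h'' hqz
    · exact fin e' he' hb₁ ha₁ b1w1 a1w1 ha₁2
  · rcases mem_sup_zpowers hw₁2 hc₁ he with h' | ⟨e', he', rfl⟩
    · exact fin e h' ha₁ hb₁ a1w2 b1w2 hb₁2
    · rw [mul_assoc]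
      refine fin e' he' ha₁ (mul_mem ha₁ hb₁) ?_ ?_ ?_
      · rw [conj_mul a1w1 a1w2, ← mul_assoc]
      · calc a₁ * b₁ * (w₁ * w₂) * (a₁ * b₁)⁻¹
            = a₁ * ((b₁ * w₁ * b₁⁻¹) * (b₁ * w₂ * b₁⁻¹)) * a₁⁻¹ := by group
          _ = a₁ * (w₁ * (z * w₂)) * a₁⁻¹ := by rw [b1w1, b1w2, mul_assoc w₁]
          _ = (a₁ * w₁ * a₁⁻¹) * (a₁ * z * a₁⁻¹) * (a₁ * w₂ * a₁⁻¹) := by group
          _ = w₁ * (z * w₂) * z := by
              rw [a1w1, a1w2, mul_inv_eq_iff_eq_mul.mpr (hzc a₁ ha₁.1).symm.eq]; group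
          _ = w₁ * w₂ * (z * z) := by rw [(hzc w₂ hw₂S.1).eq]; group
          _ = w₁ * w₂ := by rw [hz, mul_one]
      · calc a₁ * b₁ * (a₁ * b₁) = (a₁ * b₁ * a₁⁻¹) * (a₁ * a₁) * b₁ := by group
          _ = b₁ * (z * z) * b₁ := by rw [ab₁, ha₁2]; group
          _ = z := by rw [hz, mul_one, hb₁2]

/-- A second involution of the same kind, centralized by an element inverted by `z`. -/
theorem exists_inverted_rank {A Q Dp : Subgroup G} {D : Subgroup G} (hp2 : p ≠ 2)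
    (hD : CentData z D) (hmax : RankBound p n G) (hA : Cfsg.IsElementaryAbelian p A)
    (hAn : p ^ n ≤ p * (p * Nat.card A)) (hDp : Detects p (Subgroup.centralizer (A : Set G)) Dp)
    (hQ : Cfsg.IsElementaryAbelian 2 Q) (hQS : Q ≤ D ⊓ Subgroup.centralizer (A : Set G))
    (hQ8 : Nat.card Q = 8) (hzQ : z ∈ Q) (hz1 : z ≠ 1)
    (hmove : ∀ q ∈ Q, q ≠ 1 → q ≠ z → ∃ d ∈ D ⊓ Subgroup.centralizer (A : Set G), d * q * d⁻¹ = q * z) :
    ∃ w ∈ Q, w ≠ 1 ∧ w ≠ z ∧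
      (∃ E : Subgroup G, Cfsg.IsElementaryAbelian p E ∧ Nat.card E = p ^ n ∧
        E ≤ Subgroup.centralizer ({w} : Set G)) ∧
      ∃ x ∈ Dp, x ≠ 1 ∧ z * x * z⁻¹ = x⁻¹ ∧ x * w = w * x := by
  haveI : Fact (Nat.Prime 2) := ⟨Nat.prime_two⟩
  haveI := hQ.1
  obtain ⟨hDC, hCD, hDpp, -, hcl, hdet⟩ := id hDp
  have hexp : ∀ d ∈ Dp, d ^ p = 1 := fun d hd => hDp.expo_odd hp2 hd
  have hQA : Q ≤ Subgroup.centralizer (A : Set G) := fun q hq => (hQS hq).2
  have hQD : Q ≤ Subgroup.normalizer (Dp : Set G) := hQA.trans hCD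
  have hcop := coprime_card_of_two hp2 hQ hDpp
  have hgen : ∀ q ∈ Q, q ≠ 1 → ∃ H ≤ Q, H.relIndex Q ≤ 2 ∧
      ¬ Dp ⊓ Subgroup.centralizer (H : Set G) ≤ Subgroup.centralizer ({q} : Set G) := by
    intro q hq hq1
    by_contra hno
    push Not at hno
    refine hq1 (hdet q (hQA hq) (coprime_orderOf_two hp2 (hQ.2 q hq)) fun d hd => ?_)
    have h := Coprime.le_of_hyperplane_centralizer_le (p := 2) hQ.1 hQ.2 (by omega) hQD hcop hno hd
    exact (Subgroup.mem_centralizer_singleton_iff.mp h).symm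
  have hfix : ∀ {H : Subgroup G} {h x : G}, h ∈ H → x ∈ Dp ⊓ Subgroup.centralizer (H : Set G) →
      h * x * h⁻¹ = x := fun {H h x} hh hx => by
    rw [mul_inv_eq_iff_eq_mul]
    exact hx.2 h hh
  obtain ⟨H₁, hH₁, hi₁, hn₁⟩ := hgen z hzQ hz1
  obtain ⟨x₁, hx₁, hx₁1, hinv₁⟩ := exists_inverted hQ hzQ hH₁ hQD hn₁
  have hzH : z ∉ H₁ := fun h => hx₁1 (eq_one_of_inverted hp2 (hexp _ hx₁.1) hinv₁ (hfix h hx₁))
  have h4 : 4 ≤ Nat.card H₁ := by
    have := card_le_mul (p := 2) hH₁ hi₁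
    omega
  obtain ⟨⟨q₁, hq₁⟩, hq₁1⟩ := Subgroup.ne_bot_iff_exists_ne_one.mp (show H₁ ≠ ⊥ from fun h => by
    rw [h, Subgroup.card_bot] at h4; omega)
  have hq₁1' : q₁ ≠ 1 := fun h => hq₁1 (Subtype.ext h)
  obtain ⟨d, hd, hdq⟩ := hmove q₁ (hH₁ hq₁) hq₁1' fun h => hzH (h ▸ hq₁)
  have hzd : ∀ {u : G}, u ∈ D → Commute u z := fun hu =>
    Subgroup.mem_centralizer_singleton_iff.mp (hD.le hu)
  have hdQ : ∀ q ∈ Q, d * q * d⁻¹ ∈ Q := by
    intro q hq
    have he : d * q * d⁻¹ = ⁅d, q⁆ * q := by rw [commutatorElement_def]; group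
    rcases hD.comm d hd.1 q (hQS hq).1 with h | h <;> rw [he, h]
    · rwa [one_mul]
    · exact mul_mem hzQ hq
  set x₂ := d * x₁ * d⁻¹ with hx₂
  have hx₂D : x₂ ∈ Dp := (Subgroup.mem_normalizer_iff.mp (hCD hd.2) x₁).mp hx₁.1
  have hx₂1 : x₂ ≠ 1 := fun h => hx₁1 (by rwa [hx₂, mul_inv_eq_one, mul_eq_left] at h)
  set H₂ := H₁.map (MulAut.conj d).toMonoidHom with hH₂
  have hH₂Q : H₂ ≤ Q := by
    rintro _ ⟨h, hh, rfl⟩
    simpa using hdQ h (hH₁ hh)
  have hx₂c : x₂ ∈ Subgroup.centralizer (H₂ : Set G) := by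
    rintro _ ⟨h, hh, rfl⟩
    simp only [MulEquiv.coe_toMonoidHom, MulAut.conj_apply]
    calc d * h * d⁻¹ * x₂ = d * (h * x₁) * d⁻¹ := by rw [hx₂]; group
      _ = d * (x₁ * h) * d⁻¹ := by rw [hx₁.2 h hh]
      _ = x₂ * (d * h * d⁻¹) := by rw [hx₂]; group
  obtain ⟨w, hw, hw1⟩ : ∃ w ∈ H₁ ⊓ H₂, w ≠ 1 := by
    by_contra hno
    push Not at hno
    have h := Coprime.card_sup_mul_card_inf (K := H₁) (S := H₂)
      (hH₂Q.trans (((le_centralizer_self_of_ea hQ).trans (Subgroup.centralizer_le hH₁)).trans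
        (Subgroup.centralizer_le_normalizer _)))
    rw [(Subgroup.eq_bot_iff_forall _).mpr hno, Subgroup.card_bot, mul_one, hH₂,
      Subgroup.card_map_of_injective (MulAut.conj d).injective] at h
    have := Subgroup.card_le_of_le (sup_le hH₁ hH₂Q)
    rw [← hH₂] at h
    nlinarith
  have hwQ : w ∈ Q := hH₁ hw.1
  have hinv₂ : q₁ * x₂ * q₁⁻¹ = x₂⁻¹ := by
    have hq₁x : q₁ * x₁ * q₁⁻¹ = x₁ := hfix hq₁ hx₁
    have hdz : Commute d z := hzd hd.1
    have hqd : q₁ * d = d * (q₁ * z) := by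
      have h : d * q₁ = q₁ * z * d := mul_inv_eq_iff_eq_mul.mp hdq
      calc q₁ * d = q₁ * (z * z) * d := by
            rw [show z * z = 1 by rw [← pow_two]; exact hQ.2 z hzQ, mul_one]
        _ = q₁ * z * (z * d) := by group
        _ = (q₁ * z * d) * z := by rw [← hdz.eq]; group
        _ = d * (q₁ * z) := by rw [← h, mul_assoc]
    calc q₁ * x₂ * q₁⁻¹ = (q₁ * d) * x₁ * (q₁ * d)⁻¹ := by rw [hx₂]; group
      _ = d * (q₁ * (z * x₁ * z⁻¹) * q₁⁻¹) * d⁻¹ := by rw [hqd]; group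
      _ = d * (q₁ * x₁ * q₁⁻¹)⁻¹ * d⁻¹ := by rw [hinv₁]; group
      _ = x₂⁻¹ := by rw [hq₁x, hx₂]; group
  obtain ⟨y, hyD, hyw, hyc, hy1, hyinv⟩ : ∃ y ∈ Dp, w * y = y * w ∧ Commute x₁ y ∧ y ≠ 1 ∧
      q₁ * y * q₁⁻¹ = y⁻¹ := by
    by_cases hc : ⁅x₁, x₂⁆ = 1
    · exact ⟨x₂, hx₂D, hx₂c w hw.2, commutatorElement_eq_one_iff_commute.mp hc, hx₂1, hinv₂⟩
    · refine ⟨⁅x₁, x₂⁆, ?_, ?_, (hcl _ hx₁.1 _ hx₂D _ hx₁.1).symm, hc, ?_⟩
      · rw [commutatorElement_def]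
        exact mul_mem (mul_mem (mul_mem hx₁.1 hx₂D) (inv_mem hx₁.1)) (inv_mem hx₂D)
      · have a : Commute w x₁ := hx₁.2 w hw.1
        have b : Commute w x₂ := hx₂c w hw.2
        rw [commutatorElement_def]
        exact (((a.mul_right b).mul_right a.inv_right).mul_right b.inv_right).eq
      · have h : q₁ * ⁅x₁, x₂⁆ * q₁⁻¹ = ⁅x₁, x₂⁻¹⁆ := by
          rw [← hinv₂]
          conv_rhs => rw [← hfix hq₁ hx₁]
          simp [commutatorElement_def, mul_assoc]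
        rw [h]
        have hc' := (hcl _ hx₁.1 _ hx₂D _ hx₂D).inv_left.eq
        rw [show ⁅x₁, x₂⁻¹⁆ = x₂⁻¹ * (⁅x₁, x₂⁆⁻¹ * x₂) by simp [commutatorElement_def, mul_assoc],
          hc', inv_mul_cancel_left]
  have hAc : ∀ a ∈ A, ∀ u ∈ Dp, a * u = u * a := fun a ha u hu => hDC hu a ha
  have hx₁A : x₁ ∉ A := fun h => hx₁1 (eq_one_of_inverted hp2 (hexp _ hx₁.1) hinv₁
    (mul_inv_eq_iff_eq_mul.mpr (hQA hzQ x₁ h).symm))
  obtain ⟨hE₁, hc₁⟩ := extend hA (hexp _ hx₁.1) hx₁A fun a ha => hAc a ha _ hx₁.1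
  have hfixE : A ⊔ Subgroup.zpowers x₁ ≤ Subgroup.centralizer ({q₁} : Set G) :=
    sup_le (fun a ha => Subgroup.mem_centralizer_singleton_iff.mpr (hQA (hH₁ hq₁) a ha))
      (Subgroup.zpowers_le.mpr (Subgroup.mem_centralizer_singleton_iff.mpr (hx₁.2 q₁ hq₁).symm))
  have hyE : y ∉ A ⊔ Subgroup.zpowers x₁ := fun h => hy1 (eq_one_of_inverted hp2 (hexp _ hyD) hyinv
    (mul_inv_eq_iff_eq_mul.mpr (Subgroup.mem_centralizer_singleton_iff.mp (hfixE h)).symm))
  have hycE : A ⊔ Subgroup.zpowers x₁ ≤ Subgroup.centralizer ({y} : Set G) :=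
    sup_le (fun a ha => Subgroup.mem_centralizer_singleton_iff.mpr (hAc a ha y hyD))
      (Subgroup.zpowers_le.mpr (Subgroup.mem_centralizer_singleton_iff.mpr hyc.eq))
  obtain ⟨hE₂, hc₂⟩ := extend hE₁ (hexp _ hyD) hyE fun e he =>
    Subgroup.mem_centralizer_singleton_iff.mp (hycE he)
  have hEw : A ⊔ Subgroup.zpowers x₁ ⊔ Subgroup.zpowers y ≤ Subgroup.centralizer ({w} : Set G) :=
    sup_le (sup_le (fun a ha => Subgroup.mem_centralizer_singleton_iff.mpr (hQA hwQ a ha))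
      (Subgroup.zpowers_le.mpr (Subgroup.mem_centralizer_singleton_iff.mpr (hx₁.2 w hw.1).symm)))
      (Subgroup.zpowers_le.mpr (Subgroup.mem_centralizer_singleton_iff.mpr hyw.symm))
  refine ⟨w, hwQ, hw1, fun h => hzH (h ▸ hw.1), ⟨_, hE₂, le_antisymm ?_ ?_, hEw⟩,
    x₁, hx₁.1, hx₁1, hinv₁, (hx₁.2 w hw.1).symm⟩
  · exact hmax w hw1 (by rw [← pow_two]; exact hQ.2 w hwQ) _ hE₂ hEw
  · rw [hc₂, hc₁]
    exact hAn

theorem eq_of_exponent_two {M : Type*} [Group M] (hc : ∀ a b : M, a * b = b * a)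
    (hs : ∀ a : M, a * a = 1) {X Y H W : M} (h : X * Y = H * W) : Y * W = X * H := by
  calc Y * W = Y * ((H * H) * W) := by rw [hs, one_mul]
    _ = Y * (H * (H * W)) := by rw [mul_assoc]
    _ = Y * H * (X * Y) := by rw [← h, mul_assoc]
    _ = H * Y * (Y * X) := by rw [hc Y H, hc X Y]
    _ = H * (Y * Y) * X := by group
    _ = X * H := by rw [hs, mul_one, hc]

/-- The contradiction from two such involutions. -/
theorem false_of_inverted {A Dp D D' : Subgroup G} {w x h : G} (hp2 : p ≠ 2)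
    (hD : CentData z D) (hD' : CentData w D') (hz : z * z = 1) (hz1 : z ≠ 1) (hw : w * w = 1)
    (hwz : w ≠ z) (hwS : w ∈ D ⊓ Subgroup.centralizer (A : Set G))
    (hA : Cfsg.IsElementaryAbelian p A) (hAz : A ≤ Subgroup.centralizer ({z} : Set G))
    (hDp : Detects p (Subgroup.centralizer (A : Set G)) Dp)
    (hx : x ∈ Dp) (hx1 : x ≠ 1) (hinv : z * x * z⁻¹ = x⁻¹) (hxw : x * w = w * x)
    (hd : ∃ d ∈ D ⊓ Subgroup.centralizer (A : Set G), d * w * d⁻¹ = w * z)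
    (hh : h ∈ D ⊓ Subgroup.centralizer (A : Set G)) (hhw : Commute h w) (hh2 : h * h = z) : False := by
  haveI : Fact (Nat.Prime 2) := ⟨Nat.prime_two⟩
  haveI := hA.1
  obtain ⟨hDC, hCD, hDpp, -, -, -⟩ := id hDp
  have hxp : x ^ p = 1 := hDp.expo_odd hp2 hx
  have hmemC : ∀ {g v : G}, g * v = v * g → g ∈ Subgroup.centralizer ({v} : Set G) := fun hgv =>
    Subgroup.mem_centralizer_singleton_iff.mpr hgv
  have hzd : ∀ {u : G}, u ∈ D → Commute u z := fun hu =>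
    Subgroup.mem_centralizer_singleton_iff.mp (hD.le hu)
  have hwc : ∀ {u : G}, u ∈ D' → Commute u w := fun hu =>
    Subgroup.mem_centralizer_singleton_iff.mp (hD'.le hu)
  have hzw : Commute z w := (hzd hwS.1).symm
  have hAw : A ≤ Subgroup.centralizer ({w} : Set G) := fun a ha => hmemC (hwS.2 a ha)
  have hAD' : A ≤ Subgroup.normalizer (D' : Set G) := hAw.trans hD'.norm
  have hconj : ∀ {g v : G}, g * w = w * g → v ∈ D' → g * v * g⁻¹ ∈ D' := fun hg hv =>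
    (Subgroup.mem_normalizer_iff.mp (hD'.norm (hmemC hg)) _).mp hv
  -- `z` is outside `D'`
  have hzD' : z ∉ D' := by
    intro hzmem
    have hc : x * z * x⁻¹ * z⁻¹ = x * x := by
      calc x * z * x⁻¹ * z⁻¹ = x * (z * x * z⁻¹)⁻¹ := by group
        _ = x * x := by rw [hinv, inv_inv]
    have hxx : x * x ∈ D' := hc ▸ mul_mem (hconj hxw hzmem) (inv_mem hzmem)
    exact hx1 (eq_one_of_inverted hp2 hxp hinv (by
      rw [hinv, inv_eq_iff_mul_eq_one]
      exact hD'.odd hp2 hxx (by rw [← pow_two, ← pow_mul, mul_comm, pow_mul, hxp, one_pow])))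
  -- `D ∩ D'` is `⟨w⟩`
  have hint : ∀ u ∈ D, u ∈ D' → u = 1 ∨ u = w := by
    intro u hu hu'
    have hu2 : u * u = 1 := by
      rcases hD.sq u hu with h' | h'
      · exact h'
      · exact absurd (h' ▸ mul_mem hu' hu') hzD'
    have hcom : ∀ e ∈ D, e * w = w * e → u * e = e * u := by
      intro e he hew
      have hmem : ⁅e, u⁆ ∈ D' := by
        rw [commutatorElement_def]
        exact mul_mem (hconj hew hu') (inv_mem hu')
      rcases hD.comm e he u hu with h' | h'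
      · exact (commutatorElement_eq_one_iff_mul_comm.mp h').symm
      · exact absurd (h' ▸ hmem) hzD'
    obtain ⟨d, hdS, hdw⟩ := hd
    have hsplit : ∀ v, v ∈ D → v * w = w * v → (∀ e ∈ D, e * w = w * e → v * e = e * v) →
        v * d = d * v → v * v = 1 → v ∈ D' → v = 1 := by
      intro v hv hvw hve hvd hv2 hv'
      refine (hD.cent v hv (fun e he => ?_) hv2).resolve_right fun h' => hzD' (h' ▸ hv')
      rcases hD.comm e he w hwS.1 with h' | h'
      · exact hve e he (commutatorElement_eq_one_iff_mul_comm.mp h')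
      · have hed : (d⁻¹ * e) * w = w * (d⁻¹ * e) := by
          have h1 : e * w * e⁻¹ = w * z := by
            calc e * w * e⁻¹ = ⁅e, w⁆ * w := by rw [commutatorElement_def]; group
              _ = w * z := by rw [h', hzw.eq]
          rw [← mul_inv_eq_iff_eq_mul]
          calc d⁻¹ * e * w * (d⁻¹ * e)⁻¹ = d⁻¹ * (e * w * e⁻¹) * d := by group
            _ = d⁻¹ * (d * w * d⁻¹) * d := by rw [h1, hdw]
            _ = w := by group
        have h2 := hve _ (mul_mem (inv_mem hdS.1) he) hed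
        calc v * e = v * d * (d⁻¹ * e) := by group
          _ = d * (v * (d⁻¹ * e)) := by rw [hvd, mul_assoc]
          _ = e * v := by rw [h2]; group
    have huw : u * w = w * u := (hwc hu').eq
    rcases hD.comm d hdS.1 u hu with h' | h'
    · exact Or.inl (hsplit u hu huw hcom (commutatorElement_eq_one_iff_mul_comm.mp h').symm hu2 hu')
    · right
      have hdu : d * u * d⁻¹ = u * z := by
        calc d * u * d⁻¹ = ⁅d, u⁆ * u := by rw [commutatorElement_def]; group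
          _ = u * z := by rw [h', (hzd hu).symm.eq]
      have := hsplit (u * w) (mul_mem hu hwS.1) (by rw [← mul_assoc w, ← huw])
        (fun e he hew => ((show Commute u e from hcom e he hew).mul_left
          (show Commute w e from hew.symm)).eq)
        (by
          refine ((mul_inv_eq_iff_eq_mul (b := d)).mp ?_).symm
          calc d * (u * w) * d⁻¹ = (d * u * d⁻¹) * (d * w * d⁻¹) := by group
            _ = u * (z * w) * z := by rw [hdu, hdw]; group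
            _ = u * w * (z * z) := by rw [hzw.eq]; group
            _ = u * w := by rw [hz, mul_one])
        (by rw [← pow_two, (show Commute u w from huw).mul_pow, pow_two, pow_two, hu2, hw, one_mul])
        (mul_mem hu' hD'.mem)
      rw [eq_inv_of_mul_eq_one_left this, inv_eq_of_mul_eq_one_right hw]
  set Zc := D' ⊓ Subgroup.centralizer (D' : Set G) with hZc
  have hZn : Subgroup.centralizer ({w} : Set G) ≤ Subgroup.normalizer (Zc : Set G) :=
    Coprime.le_normalizer_inf_of_le hD'.norm (Coprime.le_normalizer_centralizer hD'.norm)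
  have hwZ : w ∈ Zc := ⟨hD'.mem, fun d hd => (hwc hd).eq⟩
  -- elements of order `p` in `C(w)` fix the centre
  have hfixZ : ∀ g, g ^ p = 1 → g * w = w * g → ∀ c ∈ Zc, g * c * g⁻¹ = c := by
    intro g hg hgw c hc
    have hfw : g * w * g⁻¹ = w := mul_inv_eq_iff_eq_mul.mpr hgw
    have hc' := (Subgroup.mem_normalizer_iff.mp (hZn (hmemC hgw)) c).mp hc
    set e := c⁻¹ * (g * c * g⁻¹) with he
    have heZ : e ∈ Zc := mul_mem (inv_mem hc) hc'
    have he1 : g * e * g⁻¹ = e := by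
      rcases hD'.sq c hc.1 with h' | h'
      · rcases hD'.cent c hc.1 (fun d hd => (hc.2 d hd).symm) h' with rfl | rfl
        · rw [he]; group
        · rw [he, hfw]; group
      · have hcm : Commute c⁻¹ (g * c * g⁻¹) := Commute.inv_left (hc'.2 c hc.1)
        have he2 : e * e = 1 := by
          rw [he, ← pow_two, hcm.mul_pow, pow_two, pow_two, ← mul_inv_rev, h',
            show g * c * g⁻¹ * (g * c * g⁻¹) = g * (c * c) * g⁻¹ by group, h', hfw, inv_mul_cancel]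
        rcases hD'.cent e heZ.1 (fun d hd => (heZ.2 d hd).symm) he2 with h'' | h'' <;> rw [h'']
        · group
        · exact hfw
    exact conj_eq_self hg (by rw [he]; group) he1 fun h'' => hD'.odd hp2 heZ.1 h''
  -- the decomposition of `D'` under `A`
  have hAp : IsPGroup p A := fun a => ⟨1, Subtype.ext (by rw [pow_one]; exact hA.2 a a.2)⟩
  have hcop : (Nat.card A).Coprime (Nat.card D') := IsPGroup.coprime_card_of_ne p 2 hp2 _ _ hAp hD'.pgroup
  have hsolv := Coprime.isSolvable_of_isMulCommutative A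
  set F := D' ⊓ Subgroup.centralizer (A : Set G) with hF
  set L := ⁅D', A⁆ with hL
  have hLD : L ≤ D' := Coprime.commutator_le_left_of_le_normalizer hAD'
  have hsupLF : L ⊔ F = D' := Coprime.commutator_sup_centralizer hAD' hcop (Or.inl hsolv)
  have hnormL : ∀ {g : G}, g * w = w * g → g ∈ Subgroup.centralizer (A : Set G) → ∀ v ∈ L,
      g * v * g⁻¹ ∈ L := by
    intro g hgw hgA v hv
    have hsub : Subgroup.zpowers g ≤ Subgroup.normalizer (L : Set G) :=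
      Coprime.le_normalizer_commutator (Subgroup.zpowers_le.mpr (hD'.norm (hmemC hgw)))
        (Subgroup.zpowers_le.mpr (Subgroup.centralizer_le_normalizer _ hgA))
    exact (Subgroup.mem_normalizer_iff.mp (hsub (Subgroup.mem_zpowers g)) v).mp hv
  have hAL : A ≤ Subgroup.normalizer (L : Set G) :=
    Coprime.le_normalizer_commutator hAD' Subgroup.le_normalizer
  have hLF : L ≤ Subgroup.centralizer (F : Set G) := by
    refine Subgroup.commutator_le.mpr fun v hv α hα δ hδ => ?_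
    exact (hD'.commutator_commute (hwS.2 α hα) hv hδ.1 (hδ.2 α hα)).symm.eq
  have hLFZ : ∀ u ∈ L, u ∈ Subgroup.centralizer (A : Set G) → u ∈ Zc := by
    intro u hu huA
    refine ⟨hLD hu, ?_⟩
    have : D' ≤ Subgroup.centralizer ({u} : Set G) := by
      rw [← hsupLF]
      refine sup_le (fun v hv => hmemC ?_) (fun δ hδ => hmemC (hLF hu δ hδ))
      exact (hLF hv u ⟨hLD hu, huA⟩).symm
    exact fun d hd => Subgroup.mem_centralizer_singleton_iff.mp (this hd)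
  let Fix : G → Subgroup G := fun g =>
    { carrier := {v | v ∈ L ∧ v⁻¹ * (g * v * g⁻¹) ∈ Zc}
      one_mem' := ⟨one_mem L, by simp [one_mem]⟩
      mul_mem' := fun {a b} ha hb => ⟨mul_mem ha.1 hb.1, by
        have hcm : b⁻¹ * (a⁻¹ * (g * a * g⁻¹)) = a⁻¹ * (g * a * g⁻¹) * b⁻¹ :=
          ha.2.2 b⁻¹ (inv_mem (hLD hb.1))
        have e : (a * b)⁻¹ * (g * (a * b) * g⁻¹) =
            a⁻¹ * (g * a * g⁻¹) * (b⁻¹ * (g * b * g⁻¹)) := by
          calc (a * b)⁻¹ * (g * (a * b) * g⁻¹)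
              = b⁻¹ * (a⁻¹ * (g * a * g⁻¹)) * (g * b * g⁻¹) := by group
            _ = _ := by rw [hcm]; group
        rw [e]; exact mul_mem ha.2 hb.2⟩
      inv_mem' := fun {a} ha => ⟨inv_mem ha.1, by
        have hcm : a * (a⁻¹ * (g * a * g⁻¹))⁻¹ = (a⁻¹ * (g * a * g⁻¹))⁻¹ * a :=
          (inv_mem ha.2 : _ ∈ Zc).2 a (hLD ha.1)
        have e : a⁻¹⁻¹ * (g * a⁻¹ * g⁻¹) = (a⁻¹ * (g * a * g⁻¹))⁻¹ := by
          calc a⁻¹⁻¹ * (g * a⁻¹ * g⁻¹) = a * (a⁻¹ * (g * a * g⁻¹))⁻¹ * a⁻¹ := by group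
            _ = _ := by rw [hcm, mul_inv_cancel_right]
        rw [e]; exact inv_mem ha.2⟩ }
  have hzA : z ∈ Subgroup.centralizer (A : Set G) := fun a ha =>
    Subgroup.mem_centralizer_singleton_iff.mp (hAz ha)
  have hzi : z⁻¹ = z := inv_eq_of_mul_eq_one_right hz
  set K := Fix z with hK
  have hAK : A ≤ Subgroup.normalizer (K : Set G) := by
    intro α hα
    refine mem_normalizer_of_invariant fun v hv => ⟨(Subgroup.mem_normalizer_iff.mp (hAL hα) v).mp hv.1, ?_⟩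
    have hαz : Commute α z := Subgroup.mem_centralizer_singleton_iff.mp (hAz hα)
    rw [show (α * v * α⁻¹)⁻¹ * (z * (α * v * α⁻¹) * z⁻¹)
        = α * (v⁻¹ * (z * v * z⁻¹)) * α⁻¹ by
      calc (α * v * α⁻¹)⁻¹ * (z * (α * v * α⁻¹) * z⁻¹)
          = α * v⁻¹ * α⁻¹ * ((z * α) * v * (z * α)⁻¹) := by group
        _ = _ := by rw [← hαz.eq]; group]
    rw [hfixZ α (hA.2 α hα) (hwS.2 α hα) _ hv.2]
    exact hv.2
  have hKL : K ≤ L := fun v hv => hv.1
  have hKh : K ≤ Fix h := by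
    rw [← Coprime.commutator_sup_centralizer hAK (hcop.coprime_dvd_right
      (Subgroup.card_dvd_of_le (hKL.trans hLD))) (Or.inl hsolv)]
    refine sup_le (Subgroup.commutator_le.mpr fun v hv α hα => ?_) fun u hu => ?_
    · have hcL : ⁅v, α⁆ ∈ L := by
        rw [commutatorElement_def, show v * α * v⁻¹ * α⁻¹ = v * (α * v⁻¹ * α⁻¹) by group]
        exact mul_mem hv.1 ((Subgroup.mem_normalizer_iff.mp (hAL hα) _).mp (inv_mem hv.1))
      have hcz : z * ⁅v, α⁆ * z⁻¹ = ⁅v, α⁆ := by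
        set c := v⁻¹ * (z * v * z⁻¹) with hc
        have hzv : z * v * z⁻¹ = v * c := by rw [hc]; group
        have hza : z * α * z⁻¹ = α :=
          mul_inv_eq_iff_eq_mul.mpr (Subgroup.mem_centralizer_singleton_iff.mp (hAz hα)).symm
        have hac : Commute α c := mul_inv_eq_iff_eq_mul.mp (hfixZ α (hA.2 α hα) (hwS.2 α hα) c hv.2)
        calc z * ⁅v, α⁆ * z⁻¹ = (z * v * z⁻¹) * (z * α * z⁻¹) * (z * v * z⁻¹)⁻¹ * (z * α * z⁻¹)⁻¹ := by
              rw [commutatorElement_def]; group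
          _ = v * (c * α) * (v * c)⁻¹ * α⁻¹ := by rw [hzv, hza]; group
          _ = v * (α * c) * (v * c)⁻¹ * α⁻¹ := by rw [hac.eq]
          _ = ⁅v, α⁆ := by rw [commutatorElement_def]; group
      set u := ⁅v, α⁆ with hu
      refine ⟨hcL, ?_⟩
      have huz : u ∈ Subgroup.centralizer ({z} : Set G) := hmemC (mul_inv_eq_iff_eq_mul.mp hcz).symm
      have huD : u⁻¹ * (h * u * h⁻¹) ∈ D := by
        rw [show u⁻¹ * (h * u * h⁻¹) = u⁻¹ * h * u * h⁻¹ by group]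
        exact mul_mem ((Subgroup.mem_normalizer_iff''.mp (hD.norm huz) h).mp hh.1) (inv_mem hh.1)
      rcases hint _ huD (mul_mem (inv_mem (hLD hcL)) (hconj hhw.eq (hLD hcL))) with h' | h' <;> rw [h']
      · exact one_mem Zc
      · exact hwZ
    · refine ⟨hu.1.1, ?_⟩
      have hZ := hLFZ u hu.1.1 hu.2
      exact mul_mem (inv_mem hZ) ((Subgroup.mem_normalizer_iff.mp (hZn (hmemC hhw.eq)) u).mp hZ)
  -- `z` acts trivially on `L` modulo the centre
  have hLK : ∀ v ∈ L, v⁻¹ * (z * v * z⁻¹) ∈ Zc := by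
    intro v hv
    set π := QuotientGroup.mk' (Subgroup.center ↥D') with hπ
    have hiff : ∀ a b : ↥D', π a = π b ↔ (a : G)⁻¹ * b ∈ Zc := fun a b => by
      rw [QuotientGroup.mk'_apply, QuotientGroup.mk'_apply, QuotientGroup.eq, Subgroup.mem_center_iff]
      exact ⟨fun h' => ⟨(D'.mul_mem (D'.inv_mem a.2) b.2), fun d hd => congrArg Subtype.val (h' ⟨d, hd⟩)⟩,
        fun h' d => Subtype.ext (h'.2 d d.2)⟩
    have hcm : ∀ a b : ↥D' ⧸ Subgroup.center ↥D', a * b = b * a := by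
      rintro ⟨a⟩ ⟨b⟩
      refine (hiff (a * b) (b * a)).mpr ?_
      rw [show ((a * b : ↥D') : G)⁻¹ * (b * a : ↥D') = ⁅(b : G)⁻¹, (a : G)⁻¹⁆ by
        simp [commutatorElement_def, mul_assoc]]
      rcases hD'.comm _ (inv_mem b.2) _ (inv_mem a.2) with h' | h' <;> rw [h']
      · exact one_mem Zc
      · exact hwZ
    have hsq : ∀ a : ↥D' ⧸ Subgroup.center ↥D', a * a = 1 := by
      rintro ⟨a⟩
      refine ((hiff 1 (a * a)).mpr ?_).symm
      rcases hD'.sq a a.2 with h' | h' <;> simp [h', one_mem, hwZ]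
    set cz := z * v * z⁻¹ with hcz
    set ch := h * v * h⁻¹ with hch
    set chz := h * cz * h⁻¹ with hchz
    have hczL : cz ∈ L := hnormL hzw.eq hzA v hv
    have hchL : ch ∈ L := hnormL hhw.eq hh.2 v hv
    have hchzL : chz ∈ L := hnormL hhw.eq hh.2 cz hczL
    set V : ↥D' := ⟨v, hLD hv⟩
    set CZ : ↥D' := ⟨cz, hLD hczL⟩
    set CH : ↥D' := ⟨ch, hLD hchL⟩
    set CHZ : ↥D' := ⟨chz, hLD hchzL⟩
    have e₁ : z * (v * cz) * z⁻¹ = cz * v := by
      calc z * (v * cz) * z⁻¹ = cz * (z * z) * v * (z * z)⁻¹ := by rw [hcz]; group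
        _ = cz * v := by rw [hz]; group
    have hu : v * cz ∈ K := ⟨mul_mem hv hczL, by
      rw [e₁]
      exact (hiff (V * CZ) (CZ * V)).mp (by rw [map_mul, map_mul]; exact hcm _ _)⟩
    have e₂ : π (V * CZ) = π (CH * CHZ) := by
      rw [hiff]
      have e : h * (v * cz) * h⁻¹ = ch * chz := by rw [hch, hchz]; group
      show (v * cz)⁻¹ * (ch * chz) ∈ Zc
      rw [← e]
      exact (hKh hu).2
    rw [map_mul, map_mul] at e₂
    have hzh : Commute z h := (hzd hh.1).symm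
    have e₃ : z * (v * ch) * z⁻¹ = cz * chz := by
      calc z * (v * ch) * z⁻¹ = cz * ((z * h) * v * (z * h)⁻¹) := by rw [hcz, hch]; group
        _ = cz * chz := by rw [hzh.eq, hchz, hcz]; group
    have ht : v * ch ∈ K := ⟨mul_mem hv hchL, by
      rw [e₃]
      refine (hiff (V * CH) (CZ * CHZ)).mp ?_
      rw [map_mul, map_mul]
      exact (eq_of_exponent_two hcm hsq e₂).symm⟩
    have e₄ : π (V * CH) = π (CH * CZ) := by
      rw [hiff]
      have e : h * (v * ch) * h⁻¹ = ch * cz := by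
        calc h * (v * ch) * h⁻¹ = ch * ((h * h) * v * (h * h)⁻¹) := by rw [hch]; group
          _ = ch * cz := by rw [hh2, hcz]
      show (v * ch)⁻¹ * (ch * cz) ∈ Zc
      rw [← e]
      exact (hKh ht).2
    rw [map_mul, map_mul, hcm (π CH)] at e₄
    exact (hiff V CZ).mp (mul_right_cancel e₄)
  -- so `x` centralizes `L`
  have hxA : x ∈ Subgroup.centralizer (A : Set G) := hDC hx
  have hxL : L ≤ Subgroup.centralizer ({x} : Set G) := by
    intro v hv
    set c := v⁻¹ * (z * v * z⁻¹) with hc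
    set v' := x * v * x⁻¹ with hv'
    have hv'L : v' ∈ L := hnormL hxw hxA v hv
    set c' := v'⁻¹ * (z * v' * z⁻¹) with hc'
    have hcZ : c ∈ Zc := hLK v hv
    have hc'Z : c' ∈ Zc := hLK v' hv'L
    have hfc : ∀ u ∈ Zc, x * u * x⁻¹ = u := hfixZ x hxp hxw
    have hzx : z * x = x⁻¹ * z := mul_inv_eq_iff_eq_mul.mp hinv
    have e₁ : z * v' * z⁻¹ = x⁻¹ * (v * c) * x := by
      calc z * v' * z⁻¹ = (z * x) * v * (z * x)⁻¹ := by rw [hv']; group
        _ = x⁻¹ * (v * c) * x := by rw [hzx, hc]; group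
    have e₂ : v * c = (x * x) * v * (x * x)⁻¹ * c' := by
      calc v * c = x * (x⁻¹ * (v * c) * x) * x⁻¹ := by group
        _ = x * (v' * c') * x⁻¹ := by rw [← e₁, hc']; group
        _ = x * v' * x⁻¹ * (x * c' * x⁻¹) := by group
        _ = _ := by rw [hfc c' hc'Z, hv']; group
    have hgp : (x * x) ^ p = 1 := by rw [← pow_two, ← pow_mul, mul_comm, pow_mul, hxp, one_pow]
    have hccZ : c * c'⁻¹ ∈ Zc := mul_mem hcZ (inv_mem hc'Z)
    have hfix : (x * x) * v * (x * x)⁻¹ = v := by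
      refine conj_eq_self hgp (c := c * c'⁻¹) ?_ ?_ fun h' => hD'.odd hp2 hccZ.1 h'
      · rw [← mul_assoc, e₂, mul_inv_cancel_right]
      · calc x * x * (c * c'⁻¹) * (x * x)⁻¹ = x * (x * (c * c'⁻¹) * x⁻¹) * x⁻¹ := by group
          _ = c * c'⁻¹ := by rw [hfc _ hccZ, hfc _ hccZ]
    obtain ⟨k, hk⟩ := hp.out.odd_of_ne_two hp2
    have hxe : (x * x) ^ (k + 1) = x := by
      rw [← pow_two, ← pow_mul, show 2 * (k + 1) = p + 1 by omega, pow_succ, hxp, one_mul]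
    refine hmemC ?_
    have hcm : Commute (x * x) v := mul_inv_eq_iff_eq_mul.mp hfix
    exact (hxe ▸ hcm.pow_left (k + 1)).symm.eq
  have hxF : F ≤ Subgroup.centralizer ({x} : Set G) := by
    intro u hu
    set c := x * u * x⁻¹ * u⁻¹ with hc
    have hcD : c ∈ D' := mul_mem (hconj hxw hu.1) (inv_mem hu.1)
    have hcP : c ∈ Dp := by
      rw [hc, show x * u * x⁻¹ * u⁻¹ = x * (u * x⁻¹ * u⁻¹) by group]
      exact mul_mem hx ((Subgroup.mem_normalizer_iff.mp (hCD hu.2) _).mp (inv_mem hx))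
    have hc1 : c = 1 := hD'.odd hp2 hcD (hDp.expo_odd hp2 hcP)
    rw [hc, mul_inv_eq_one, mul_inv_eq_iff_eq_mul] at hc1
    exact hmemC hc1.symm
  exact hx1 (hD'.eq_one_of_commute hp2 hxp hxw fun u hu =>
    (Subgroup.mem_centralizer_singleton_iff.mp ((sup_le hxL hxF) (hsupLF.ge hu))).symm)

/-- No involution centralizes an elementary abelian `p`-group of rank three. -/
theorem false_of_rank_three (hp2 : p ≠ 2) (hn : 3 ≤ n) (hmax : RankBound p n G) (hloc : LocalDetect p G)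
    (hG : Cfsg.IsCharacteristicTwoType G) (hB : Cfsg.IsElementaryAbelian p B) (hBn : Nat.card B = p ^ n)
    (hBz : B ≤ Subgroup.centralizer ({z} : Set G)) (hz : z * z = 1) (hz1 : z ≠ 1) : False := by
  obtain ⟨D, hD⟩ := exists_centData hp2 (by omega) hmax hloc hG hB hBn hBz hz hz1
  obtain ⟨A, hAB, hA1, hAn, a₁, b₁, a₂, b₂, h₁, h₂, c₁, c₂, c₃, c₄⟩ :=
    exists_two_pairs hp2 hn hmax hloc hB hBn hBz hz hz1 hD
  have hA := ea_mono hAB hB
  obtain ⟨Dp, hDp⟩ := hloc A hA hA1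
  obtain ⟨Q, hQ, hQS, hQ8, hzQ, hQp⟩ := exists_eight hD hz hz1 (hAB.trans hBz) h₁ h₂ c₁ c₂ c₃ c₄
  obtain ⟨w, hwQ, hw1, hwz, ⟨E, hE, hEn, hEw⟩, x, hx, hx1, hinv, hxw⟩ :=
    exists_inverted_rank hp2 hD hmax hA hAn hDp hQ hQS hQ8 hzQ hz1 fun q hq h1 h2 => (hQp q hq h1 h2).1
  have hw2 : w * w = 1 := by rw [← pow_two]; exact hQ.2 w hwQ
  obtain ⟨D', hD'⟩ := exists_centData hp2 (by omega) hmax hloc hG hE hEn hEw hw2 hw1
  obtain ⟨hd, h, hh, hhw, hh2⟩ := hQp w hwQ hw1 hwz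
  exact false_of_inverted hp2 hD hD' hz hz1 hw2 hwz (hQS hwQ) hA (hAB.trans hBz) hDp hx hx1 hinv hxw
    hd hh hhw hh2

/-- A `2`-subgroup normalized by an elementary group of rank three gives an involution centralizing one. -/
theorem exists_involution_centralizing (hp2 : p ≠ 2) (hloc : LocalDetect p G) {T : Subgroup G}
    (hT : IsPGroup 2 T) (hT1 : T ≠ ⊥) {k : ℕ} (hk : 2 ≤ k) {B : Subgroup G}
    (hB : Cfsg.IsElementaryAbelian p B) (hBc : p ^ k ≤ Nat.card B)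
    (hBT : B ≤ Subgroup.normalizer (T : Set G)) :
    ∃ z : G, z ≠ 1 ∧ z * z = 1 ∧ ∃ E : Subgroup G, Cfsg.IsElementaryAbelian p E ∧
      p ^ k ≤ Nat.card E ∧ E ≤ Subgroup.centralizer ({z} : Set G) := by
  haveI : Fact (Nat.Prime 2) := ⟨Nat.prime_two⟩
  haveI := hB.1
  haveI : Nontrivial T := (Subgroup.nontrivial_iff_ne_bot T).mpr hT1
  haveI := hT.center_nontrivial
  have invol : ∀ t : T, t ≠ 1 → ∃ i : ℕ, t ^ i ≠ 1 ∧ t ^ i * t ^ i = 1 := by
    intro t ht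
    obtain ⟨j, hj⟩ := hT.exists_orderOf_eq_pow t
    have hj1 : j ≠ 0 := fun h => ht (orderOf_eq_one_iff.mp (by rw [hj, h, pow_zero]))
    refine ⟨2 ^ (j - 1), fun h => ?_, ?_⟩
    · have h' := orderOf_dvd_of_pow_eq_one h
      rw [hj, Nat.pow_dvd_pow_iff_le_right one_lt_two] at h'
      omega
    · rw [← pow_two, ← pow_mul, ← pow_succ, Nat.sub_add_cancel (Nat.one_le_iff_ne_zero.mpr hj1), ← hj,
        pow_orderOf_eq_one]
  by_cases hfix : ∃ t : T, t ≠ 1 ∧ (t : G) ∈ Subgroup.centralizer (B : Set G)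
  · obtain ⟨t, ht, htB⟩ := hfix
    obtain ⟨i, hi, hi2⟩ := invol t ht
    exact ⟨((t ^ i : T) : G), fun h => hi (Subtype.ext h), congrArg Subtype.val hi2, B, hB, hBc,
      fun b hb => Subgroup.mem_centralizer_singleton_iff.mpr
        (((show Commute b (t : G) from htB b hb).pow_right i).eq)⟩
  push Not at hfix
  let V : Subgroup G :=
    { carrier := {u | u ∈ T ∧ (∀ d ∈ T, d * u = u * d) ∧ u * u = 1}
      one_mem' := ⟨one_mem T, fun d _ => by simp, one_mul 1⟩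
      mul_mem' := fun {a b} ha hb => ⟨mul_mem ha.1 hb.1, fun d hd =>
        ((show Commute d a from ha.2.1 d hd).mul_right (hb.2.1 d hd)).eq, by
          rw [← pow_two, (show Commute a b from hb.2.1 a ha.1).mul_pow, pow_two, pow_two, ha.2.2,
            hb.2.2, one_mul]⟩
      inv_mem' := fun {a} ha => ⟨inv_mem ha.1, fun d hd =>
        (show Commute d a from ha.2.1 d hd).inv_right.eq, by rw [← mul_inv_rev, ha.2.2, inv_one]⟩ }
  have hVe : Cfsg.IsElementaryAbelian 2 V :=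
    ⟨⟨⟨fun a b => Subtype.ext (b.2.2.1 a a.2.1)⟩⟩, fun a ha => by rw [pow_two]; exact ha.2.2⟩
  have hV1 : V ≠ ⊥ := by
    obtain ⟨⟨c, hc⟩, hc1⟩ := exists_ne (1 : Subgroup.center T)
    obtain ⟨i, hi, hi2⟩ := invol c fun h => hc1 (Subtype.ext h)
    refine Subgroup.ne_bot_iff_exists_ne_one.mpr ⟨⟨((c ^ i : T) : G), (c ^ i).2, fun d hd => ?_,
      congrArg Subtype.val hi2⟩, fun h => hi (Subtype.ext (congrArg (fun u : V => (u : G)) h))⟩
    exact congrArg Subtype.val (Subgroup.mem_center_iff.mp (Subgroup.pow_mem _ hc i) ⟨d, hd⟩)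
  have hBV : B ≤ Subgroup.normalizer (V : Set G) := fun β hβ => mem_normalizer_of_invariant fun v hv => by
    refine ⟨(Subgroup.mem_normalizer_iff.mp (hBT hβ) v).mp hv.1, fun d hd => ?_, ?_⟩
    · have h := hv.2.1 _ ((Subgroup.mem_normalizer_iff''.mp (hBT hβ) d).mp hd)
      calc d * (β * v * β⁻¹) = β * ((β⁻¹ * d * β) * v) * β⁻¹ := by group
        _ = β * (v * (β⁻¹ * d * β)) * β⁻¹ := by rw [h]
        _ = β * v * β⁻¹ * d := by group
    · calc β * v * β⁻¹ * (β * v * β⁻¹) = β * (v * v) * β⁻¹ := by group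
        _ = 1 := by rw [hv.2.2]; group
  have hBp2 : p ^ 2 ≤ Nat.card B := (Nat.pow_le_pow_right hp.out.pos hk).trans hBc
  have hcop := (coprime_card_of_two hp2 hVe
    (show IsPGroup p B from fun b => ⟨1, Subtype.ext (by rw [pow_one]; exact hB.2 b b.2)⟩)).symm
  obtain ⟨A, hA, hAi, hAn⟩ : ∃ A ≤ B, A.relIndex B ≤ p ∧
      ¬ V ⊓ Subgroup.centralizer (A : Set G) ≤ ⊥ := by
    by_contra hno
    push Not at hno
    exact hV1 (le_bot_iff.mp (Coprime.le_of_hyperplane_centralizer_le hB.1 hB.2 hBp2 hBV hcop hno))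
  set W := V ⊓ Subgroup.centralizer (A : Set G) with hW
  have hW1 : W ≠ ⊥ := fun h => hAn h.le
  have hcW : ∀ u ∈ W, u ∈ Subgroup.centralizer (B : Set G) → u = 1 := fun u hu huB => by
    by_contra hu1
    exact hfix ⟨u, hu.1.1⟩ (fun h => hu1 (congrArg Subtype.val h)) huB
  obtain ⟨β, hβ, hβA⟩ : ∃ β ∈ B, β ∉ A := by
    by_contra hno
    push Not at hno
    exact hW1 ((Subgroup.eq_bot_iff_forall W).mpr fun u hu =>
      hcW u hu (Subgroup.centralizer_le hno hu.2))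
  have hAc := card_le_mul hA hAi
  obtain ⟨-, hsc⟩ := extend (ea_mono hA hB) (hB.2 β hβ) hβA fun a ha => mul_comm_of_ea hB (hA ha) hβ
  have hsup : A ⊔ Subgroup.zpowers β = B :=
    Subgroup.eq_of_le_of_card_ge (sup_le hA (Subgroup.zpowers_le.mpr hβ)) (hsc ▸ hAc)
  have hW4 : 4 ≤ Nat.card W := by
    refine four_le_of_fpf hp2 (ea_mono inf_le_left hVe) hW1 (hB.2 β hβ) (fun u hu hu1 hfx => hu1 ?_)
      fun u hu => (Subgroup.mem_normalizer_iff.mp (Coprime.le_normalizer_inf_of_le hBV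
        (((le_centralizer_self_of_ea hB).trans (Subgroup.centralizer_le hA)).trans
          Subgroup.le_normalizer) hβ) u).mp hu
    refine hcW u hu ?_
    have : B ≤ Subgroup.centralizer ({u} : Set G) := hsup ▸ sup_le
      (fun a ha => Subgroup.mem_centralizer_singleton_iff.mpr (hu.2 a ha))
      (Subgroup.zpowers_le.mpr (Subgroup.mem_centralizer_singleton_iff.mpr
        (mul_inv_eq_iff_eq_mul.mp hfx)))
    exact fun b hb => Subgroup.mem_centralizer_singleton_iff.mp (this hb)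
  have hA1 : A ≠ ⊥ := fun h => by
    rw [h, Subgroup.card_bot, mul_one] at hAc
    have := hBp2.trans hAc
    rw [pow_two] at this
    nlinarith [hp.out.two_le]
  obtain ⟨D, hD⟩ := hloc A (ea_mono hA hB) hA1
  obtain ⟨w, hw, hw2, E, hE, hc, hEw⟩ := exists_rank_one hp2 le_rfl (ea_mono hA hB) hD
    (ea_mono inf_le_left hVe) (inf_le_right : W ≤ _) hW4
  exact ⟨w, hw, by rw [← pow_two]; exact hw2, E, hE, (hBc.trans hAc).trans hc, hEw⟩

/-- **Klinger–Mason.** -/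
theorem twoLocalPRankLE_two (hp2 : p ≠ 2) (hloc : LocalDetect p G)
    (hG : Cfsg.IsCharacteristicTwoType G) : Cfsg.TwoLocalPRankLE p 2 G := by
  rintro H ⟨T, hT, hT1, rfl⟩ A hAc hAp
  by_contra hbig
  push Not at hbig
  set B := A.map (Subgroup.normalizer (T : Set G)).subtype with hBdef
  have hB : Cfsg.IsElementaryAbelian p B := by
    refine ⟨Subgroup.map_isMulCommutative _ _, ?_⟩
    rintro _ ⟨a, ha, rfl⟩
    exact congrArg Subtype.val (hAp a ha)
  have hBc : p ^ 3 ≤ Nat.card B := by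
    rw [hBdef, Subgroup.card_map_of_injective (Subgroup.subtype_injective _)]
    obtain ⟨j, hj⟩ := IsPGroup.iff_card.mp
      (show IsPGroup p A from fun a => ⟨1, Subtype.ext (by rw [pow_one]; exact hAp a a.2)⟩)
    rw [hj] at hbig ⊢
    exact Nat.pow_le_pow_right hp.out.pos ((Nat.pow_lt_pow_iff_right hp.out.one_lt).mp hbig)
  obtain ⟨z, hz1, hz, E, hE, hEc, hEz⟩ :=
    exists_involution_centralizing hp2 hloc hT hT1 (by norm_num) hB hBc (Subgroup.map_subtype_le A)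
  classical
  let S : ℕ → Prop := fun k => ∃ z : G, z ≠ 1 ∧ z * z = 1 ∧ ∃ E : Subgroup G,
    Cfsg.IsElementaryAbelian p E ∧ Nat.card E = p ^ k ∧ E ≤ Subgroup.centralizer ({z} : Set G)
  have hbd : ∀ k, S k → k ≤ Nat.card G := by
    rintro k ⟨-, -, -, E, -, hEk, -⟩
    have := hEk ▸ Subgroup.card_le_card_group E
    exact (Nat.lt_pow_self hp.out.one_lt).le.trans this
  have hpw : ∀ E : Subgroup G, Cfsg.IsElementaryAbelian p E → ∃ j, Nat.card E = p ^ j := fun E hE =>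
    IsPGroup.iff_card.mp (fun a => ⟨1, Subtype.ext (by rw [pow_one]; exact hE.2 a a.2)⟩)
  obtain ⟨j, hj⟩ := hpw E hE
  have hSj : S j := ⟨z, hz1, hz, E, hE, hj, hEz⟩
  set n := Nat.findGreatest S (Nat.card G) with hn
  have hSn : S n := Nat.findGreatest_spec (hbd j hSj) hSj
  have h3 : 3 ≤ n := by
    refine le_trans ?_ (Nat.le_findGreatest (hbd j hSj) hSj)
    rwa [hj, Nat.pow_le_pow_iff_right hp.out.one_lt] at hEc
  have hmax : RankBound p n G := by
    intro w hw hw2 E' hE' hE'w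
    obtain ⟨i, hi⟩ := hpw E' hE'
    have hSi : S i := ⟨w, hw, hw2, E', hE', hi, hE'w⟩
    rw [hi]
    exact Nat.pow_le_pow_right hp.out.pos (Nat.le_findGreatest (hbd i hSi) hSi)
  obtain ⟨z', hz'1, hz', E', hE', hE'n, hE'z⟩ := hSn
  exact false_of_rank_three hp2 h3 hmax hloc hG hE' hE'n hE'z hz' hz'1

end CfsgLib.WeightRank
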